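/-
Overgroups of the stabiliser of two complementary planes in `SL_4(q)`, `q ≥ 4`.
Main results: `exists_link`, `sl_le_of_not_block`.
-/
import Cfsg.Agent.Lib.Transvect.Block

set_option autoImplicit false
set_option linter.unusedSectionVars false

namespace Cfsg.Agent.SL4Max

open Matrix
open Cfsg.Agent.Transvect
open scoped MatrixGroups

variable {F : Type*} [Field F] [Fintype F] {t m : ℕ} {D : Fin t → Submodule F (Fin 4 → F)}
  (hD : Cfsg.Geo.IsMDecomposition m D) {M : Subgroup (GL (Fin 4) F)}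
  (hH : Cfsg.Geo.decompositionStabilizer D ⊓ Cfsg.Geo.specialLinear (Fin 4) F ≤ M)
include hD hH

lemma exists_link (hm : m = 2) (hq : 4 ≤ Fintype.card F) {g : GL (Fin 4) F} (hg : g ∈ M)
    (hgH : g ∉ Cfsg.Geo.decompositionStabilizer D) : Link D M := by
  classical
  have hm2 : 2 ≤ m := hm.ge
  -- a vector of some block whose image meets two blocks
  obtain ⟨i, u, hu, j, k, hjk, hwj, hwk⟩ : ∃ i, ∃ u ∈ D i, ∃ j k, j ≠ k ∧
      pr hD j (app g u) ≠ 0 ∧ pr hD k (app g u) ≠ 0 := by
    by_contra hno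
    push Not at hno
    have one : ∀ i, ∀ u ∈ D i, ∀ j, pr hD j (app g u) ≠ 0 → app g u ∈ D j := fun i u hu j hj => by
      have : app g u = pr hD j (app g u) := by
        conv_lhs => rw [← sum_pr hD (app g u)]
        exact Finset.sum_eq_single j (fun k _ hk => hno i u hu j k (Ne.symm hk) hj)
          (fun h => absurd (Finset.mem_univ j) h)
      rw [this]; exact pr_mem hD j _
    have blk : ∀ i, ∃ j, ∀ u ∈ D i, app g u ∈ D j := fun i => by
      obtain ⟨u, hu, hu0⟩ := exists_notMem hD (i := i) (W := ⊥) (by rw [finrank_bot]; exact hD.pos)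
      obtain ⟨j, hj⟩ : ∃ j, pr hD j (app g u) ≠ 0 := by
        by_contra h
        push Not at h
        apply hu0
        have h1 := sum_pr hD (app g u)
        rw [Finset.sum_eq_zero (fun j _ => h j)] at h1
        simpa using (app g).map_eq_zero_iff.1 h1.symm
      refine ⟨j, fun v hv => ?_⟩
      by_contra hvj
      have h0 : pr hD j (app g v) = 0 := by
        by_contra h
        exact hvj (one i v hv j h)
      have hj' : pr hD j (app g (u + v)) ≠ 0 := by rw [map_add, map_add, h0, add_zero]; exact hj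
      have h2 := sub_mem (one i (u + v) (add_mem hu hv) j hj') (one i u hu j hj)
      rw [map_add, add_sub_cancel_left] at h2
      exact hvj h2
    choose s hs using blk
    have hinj : Function.Injective s := fun i i' h => by
      by_contra hne
      have hmap : ∀ i, (D i).map (app g).toLinearMap = D (s i) := fun i => by
        refine Submodule.eq_of_le_of_finrank_eq ?_ ?_
        · rintro _ ⟨x, hx, rfl⟩; exact hs i x hx
        · rw [LinearEquiv.finrank_map_eq, hD.finrank_eq, hD.finrank_eq]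
      have he := Submodule.map_injective_of_injective (f := (app g).toLinearMap) (app g).injective
        ((hmap i).trans (h ▸ (hmap i').symm))
      obtain ⟨u, hu, hu0⟩ := exists_notMem hD (i := i) (W := ⊥) (by rw [finrank_bot]; exact hD.pos)
      have h1 := pr_of_mem_ne hD (i := i) (Ne.symm hne) (he ▸ hu : u ∈ D i')
      rw [pr_of_mem hD hu] at h1
      exact hu0 (by simp [h1])
    exact hgH (BlockMap.mem hD (σ := Equiv.ofBijective s (Finite.injective_iff_bijective.1 hinj))
      fun i x hx => hs i x hx)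
  set w := app g u with hw
  -- a transvection with centre w
  obtain ⟨b, hb, hbu⟩ := exists_notMem hD (i := i) (W := Submodule.span F {u})
    (lt_of_le_of_lt ((finrank_span_le_card _).trans (by simp)) hm2)
  obtain ⟨θ, hθ, hθb, hθu⟩ := exists_blk_dual hD hb hbu
  obtain ⟨ψ, hψ, hψ0⟩ : ∃ ψ, ψ ∈ axes M w ∧ ψ ≠ 0 := by
    refine ⟨_, axes_conj hg (blk_axes hD hH hu hθ (hθu u hu (Submodule.mem_span_singleton_self u))),
      fun h => ?_⟩
    have h1 := LinearMap.congr_fun h (app g b)
    rw [LinearMap.comp_apply, LinearEquiv.coe_coe, app_inv_app, hθb, LinearMap.zero_apply] at h1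
    exact one_ne_zero h1
  by_cases hA : ∃ p, pr hD p w ≠ 0 ∧ ∀ x ∈ D p, ψ x = 0
  · obtain ⟨p, hp, hp'⟩ := hA
    exact link_of_vanish hD hH hm2 hψ hψ0 hp hp'
  push Not at hA
  obtain ⟨bk, hbk, hψk⟩ := hA k hwk
  by_cases hB : ∃ a ∈ D j, ψ a = 0 ∧ a ∉ Submodule.span F {pr hD j w}
  · obtain ⟨a, ha, hψa, haw⟩ := hB
    exact link_of hD hH hm2 hψ hjk.symm ha haw hψa hwj hbk hψk
  push Not at hB
  -- now m = 2 and the field is bigger than F_2
  obtain ⟨a1, ha1, ha1w⟩ := exists_notMem hD (i := j) (W := Submodule.span F {pr hD j w})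
    (lt_of_le_of_lt ((finrank_span_le_card _).trans (by simp)) hm2)
  have hψwj : ψ (pr hD j w) = 0 := by
    by_contra h
    apply ha1w
    have := hB (a1 - (ψ a1 / ψ (pr hD j w)) • pr hD j w)
      (sub_mem ha1 (Submodule.smul_mem _ _ (pr_mem hD j w))) (by simp [h])
    simpa using add_mem this
      (Submodule.smul_mem _ (ψ a1 / ψ (pr hD j w)) (Submodule.mem_span_singleton_self (pr hD j w)))
  have hψa1 : ψ a1 ≠ 0 := fun h => ha1w (hB a1 ha1 h)
  set a := pr hD j w with haw'
  set b := pr hD k w with hbw'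
  have ha : a ∈ D j := pr_mem hD j w
  have hb' : b ∈ D k := pr_mem hD k w
  have ht : t = 2 := by
    let Φ : (∀ i, D i) →ₗ[F] (Fin 4 → F) := ∑ i, (D i).subtype ∘ₗ LinearMap.proj i
    have hΦ : Function.Injective Φ := by
      rw [← LinearMap.ker_eq_bot, LinearMap.ker_eq_bot']
      intro x hx
      funext i
      have h1 := congrArg (pr hD i) hx
      simp only [Φ, LinearMap.sum_apply, map_sum, LinearMap.comp_apply, LinearMap.proj_apply,
        Submodule.subtype_apply, map_zero] at h1
      rw [Finset.sum_eq_single i (fun k _ hk => pr_of_mem_ne hD hk (x k).2)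
        (fun h => absurd (Finset.mem_univ i) h), pr_of_mem hD (x i).2] at h1
      exact Subtype.ext h1
    have h1 := LinearMap.finrank_le_finrank_of_injective hΦ
    have h2 := hD.two_le
    rw [Module.finrank_pi_fintype, Module.finrank_fin_fun] at h1
    simp [hD.finrank_eq, hm] at h1
    omega
  subst ht
  have hw2 : w = a + b := by
    rw [haw', hbw']
    conv_lhs => rw [← sum_pr hD w]
    rw [Fin.sum_univ_two]
    fin_cases j <;> fin_cases k <;> first | exact absurd rfl hjk | rfl | exact add_comm _ _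
  have hψb : ψ b = 0 := by
    have h := hψ.1
    rw [hw2, map_add, hψwj, zero_add] at h
    exact h
  obtain ⟨θa, hθa, hθa1, -⟩ := exists_blk_dual hD ha (W := ⊥) (by simpa using hwj)
  obtain ⟨θb, hθb', hθb1, -⟩ := exists_blk_dual hD hb' (W := ⊥) (by simpa using hwk)
  obtain ⟨l, hl0, hl⟩ : ∃ l : F, l ≠ 0 ∧ l * l ≠ 1 := by
    obtain ⟨l, hl⟩ := exists_notMem_of_card_lt (s := ({0, 1, -1} : Finset F))
      (lt_of_le_of_lt Finset.card_le_three (by omega))
    simp only [Finset.mem_insert, Finset.mem_singleton, not_or] at hl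
    exact ⟨l, hl.1, fun h => (mul_self_eq_one_iff.1 h).elim hl.2.1 hl.2.2⟩
  have h1 : 1 + ((l - 1) • θa) a ≠ 0 := by simp [hθa1, hl0]
  have h2 : 1 + ((l⁻¹ - 1) • θb) b ≠ 0 := by simp [hθb1, hl0]
  set h := dil a ((l - 1) • θa) h1 * dil b ((l⁻¹ - 1) • θb) h2 with hh
  have hab : θa b = 0 := hθa k hjk.symm b hb'
  have hba : θb a = 0 := hθb' j hjk a ha
  have happ : ∀ x, app h x = x + ((l⁻¹ - 1) * θb x) • b + ((l - 1) * θa x) • a := fun x => by
    rw [hh, map_mul, LinearEquiv.mul_apply, dil_apply, dil_apply]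
    simp [hab]
  have hhM : h ∈ M := hH ⟨mul_mem
      ((blockMap_of_blk hD ha (θ := (l - 1) • θa) (fun i hi x hx => by simp [hθa i hi x hx])
        fun x => dil_apply h1 x).mem hD)
      ((blockMap_of_blk hD hb' (θ := (l⁻¹ - 1) • θb) (fun i hi x hx => by simp [hθb' i hi x hx])
        fun x => dil_apply h2 x).mem hD), by
    show h ∈ Cfsg.Geo.specialLinear (Fin 4) F
    rw [mem_sl_iff, hh, Units.val_mul, Matrix.det_mul, det_dil, det_dil]
    simp [hθa1, hθb1, hl0]⟩
  have hc := axes_conj hhM hψ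
  have hψh : ψ ∘ₗ (app h⁻¹).toLinearMap = ψ := LinearMap.ext fun x => by
    obtain ⟨y, rfl⟩ := (app h).surjective x
    rw [LinearMap.comp_apply, LinearEquiv.coe_coe, app_inv_app, happ, map_add, map_add, map_smul,
      map_smul, hψwj, hψb]
    simp
  have hhw : app h w = l • a + l⁻¹ • b := by
    rw [happ, hw2, map_add, map_add, hθa1, hθb1, hab, hba]
    module
  rw [hψh, hhw] at hc
  have hlne : l - l⁻¹ ≠ 0 := fun e => hl (by field_simp at e; linear_combination e)
  have hsm : ∀ {v : Fin 4 → F} (c : F), ψ ∈ axes M v → ψ ∈ axes M (c • v) :=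
    fun c hv => axes_smul hv c
  have hax : ψ ∈ axes M a := by
    have h3 := hsm (l - l⁻¹)⁻¹ (axes_add hc (hsm (-l⁻¹) hψ))
    rw [hw2, show l • a + l⁻¹ • b + (-l⁻¹) • (a + b) = (l - l⁻¹) • a by module, smul_smul,
      inv_mul_cancel₀ hlne, one_smul] at h3
    exact h3
  have hblk : ψ ∘ₗ pr hD j ∈ axes M a := blk_axes hD hH ha (isBlk_comp_pr hD ψ j)
    (by rw [LinearMap.comp_apply, pr_of_mem hD ha, hψwj])
  refine ⟨j, k, hjk, a, ha, hwj, ψ - ψ ∘ₗ pr hD j, ?_, fun h0 => ?_, sub_mem hax hblk⟩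
  · intro i hi x hx
    have : i = j := by
      omega
    subst this
    rw [LinearMap.sub_apply, LinearMap.comp_apply, pr_of_mem hD hx, sub_self]
  · have h3 := LinearMap.congr_fun h0 bk
    rw [LinearMap.sub_apply, LinearMap.comp_apply, pr_of_mem_ne hD hjk.symm hbk, map_zero, sub_zero,
      LinearMap.zero_apply] at h3
    exact hψk h3

/-- The overgroup theorem for two blocks of dimension two. -/
theorem sl_le_of_not_block (hm : m = 2) (hq : 4 ≤ Fintype.card F) {g : GL (Fin 4) F} (hg : g ∈ M)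
    (hgH : g ∉ Cfsg.Geo.decompositionStabilizer D) : Cfsg.Geo.specialLinear (Fin 4) F ≤ M := by
  have hL := exists_link hD hH hm hq hg hgH
  refine sl_le_of_fullSub M ?_
  rw [eq_top_iff, ← hD.iSup_eq_top]
  refine iSup_le fun j a ha => ?_
  by_cases ha0 : a = 0
  · exact Or.inl ha0
  refine Or.inr fun φ hφ => ?_
  have he : φ = ∑ i, φ ∘ₗ pr hD i := LinearMap.ext fun x => by
    simp [LinearMap.sum_apply, ← map_sum, sum_pr hD x]
  rw [he]
  refine sum_mem fun i _ => ?_
  by_cases hi : i = j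
  · subst hi
    exact blk_axes hD hH ha (isBlk_comp_pr hD φ i)
      (by rw [LinearMap.comp_apply, pr_of_mem hD ha, hφ])
  · exact axes_all hD hH hL (Ne.symm hi) ha (isBlk_comp_pr hD φ i)


end Cfsg.Agent.SL4Max
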