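/-
The monomial subgroup of `SL_4(q)`, `q ≥ 7`, is maximal.
Main results: `row_of_full`, `fix_of_full`, `fix_of_two_zeros`, `sl_le_of_not_line`.
-/
import Cfsg.Agent.Lib.Transvect.BlockLine

set_option autoImplicit false
set_option linter.unusedSectionVars false
set_option linter.unusedVariables false

namespace Cfsg.Agent.SL4Max

open Matrix
open Cfsg.Agent.Transvect
open scoped MatrixGroups

variable {F : Type*} [Field F]

/-- The three double transpositions and a three-cycle normalising them. -/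
def p₁ : Equiv.Perm (Fin 4) := Equiv.swap 0 1 * Equiv.swap 2 3
/-- The second double transposition. -/
def p₂ : Equiv.Perm (Fin 4) := Equiv.swap 0 2 * Equiv.swap 1 3
/-- A three-cycle. -/
def r₃ : Equiv.Perm (Fin 4) := Equiv.swap 1 2 * Equiv.swap 2 3

lemma perm_facts : p₁ * p₁ = 1 ∧ p₂ * p₂ = 1 ∧ p₁ * p₂ = p₂ * p₁ ∧
    ((r₃ * p₁ = p₂ * r₃ ∧ r₃ * p₂ = p₁ * p₂ * r₃) ∨ (r₃ * p₂ = p₁ * r₃ ∧ r₃ * p₁ = p₁ * p₂ * r₃)) := by decide

lemma alt_facts : Equiv.Perm.sign p₁ = 1 ∧ Equiv.Perm.sign p₂ = 1 ∧ Equiv.Perm.sign r₃ = 1 := by decide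

lemma small_stab : ∀ k : Fin 4, ∀ a b : Equiv.Perm (Fin 4), a k = k → b k = k → a * a = 1 → b * b = 1 →
    a * b = b * a → a = b ∨ a = 1 ∨ b = 1 := by decide +kernel

lemma cover : ∀ i j : Fin 4, j = i ∨ j = p₁ i ∨ j = p₂ i ∨ j = p₁ (p₂ i) := by decide

/-- A homomorphism of `A₄` into a point stabiliser kills the double transpositions. -/
lemma kills {k : Fin 4} (a b c : Equiv.Perm (Fin 4)) (ha : a k = k) (hb : b k = k)
    (h1 : a * a = 1) (h2 : b * b = 1) (hc : a * b = b * a)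
    (h3 : (c * a = b * c ∧ c * b = a * b * c) ∨ (c * b = a * c ∧ c * a = a * b * c)) :
    a = 1 ∧ b = 1 := by
  rcases small_stab k a b ha hb h1 h2 hc with rfl | rfl | rfl
  · rw [h1] at h3
    have h : c * a = 1 * c := by rcases h3 with ⟨-, h⟩ | ⟨-, h⟩ <;> exact h
    have ha' : a = 1 := by
      rw [one_mul] at h; exact mul_left_cancel (h.trans (mul_one c).symm)
    exact ⟨ha', ha'⟩
  · refine ⟨rfl, ?_⟩
    rcases h3 with ⟨h, -⟩ | ⟨h, -⟩
    · rw [mul_one] at h; exact (mul_eq_right.1 h.symm)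
    · rw [one_mul] at h; exact mul_left_cancel (h.trans (mul_one c).symm)
  · refine ⟨?_, rfl⟩
    rcases h3 with ⟨h, -⟩ | ⟨h, -⟩
    · rw [one_mul] at h; exact mul_left_cancel (h.trans (mul_one c).symm)
    · rw [mul_one] at h; exact (mul_eq_right.1 h.symm)

lemma alt_mem_sl {p : Equiv.Perm (Fin 4)} (hp : Equiv.Perm.sign p = 1) :
    (pg p : GL (Fin 4) F) * dg 1 ∈ Cfsg.Geo.specialLinear (Fin 4) F := by
  rw [mem_sl_iff, det_pg_dg, hp]; simp

/-- The eighth root exclusion. -/
lemma exists_good_unit [Fintype F] (h2 : (2 : F) ≠ 0) (hq : 7 ≤ Fintype.card F) :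
    ∃ ν : F, ν ≠ 0 ∧ ν ≠ 1 ∧ ν ≠ -1 ∧
      (ν + ν⁻¹ + 2) ^ 2 ≠ 4 := by
  classical
  suffices h : ∃ ν : F, ν ≠ 0 ∧ ν ≠ 1 ∧ ν ≠ -1 ∧ ν ^ 2 + 1 ≠ 0 ∧ ν ^ 2 + 4 * ν + 1 ≠ 0 by
    obtain ⟨ν, h0, h1, h3, h4, h5⟩ := h
    refine ⟨ν, h0, h1, h3, fun e => mul_ne_zero h4 h5 ?_⟩
    field_simp at e
    linear_combination e
  rcases Nat.eq_or_lt_of_le hq with h7 | h8
  · have e7 : (7 : F) = 0 := by
      have := Nat.cast_card_eq_zero (R := F)
      rw [← h7] at this
      exact_mod_cast this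
    refine ⟨2, h2, fun e => ?_, fun e => ?_, fun e => ?_, fun e => ?_⟩
    · exact one_ne_zero (show (1 : F) = 0 by linear_combination e)
    · exact one_ne_zero (show (1 : F) = 0 by linear_combination e7 - 2 * e)
    · exact one_ne_zero (show (1 : F) = 0 by linear_combination 3 * e - 2 * e7)
    · exact one_ne_zero (show (1 : F) = 0 by linear_combination 2 * e7 - e)
  · open Polynomial in
    let P : F[X] := (X ^ 2 + 1) * (X ^ 2 + C 4 * X + 1) * X * (X - 1) * (X + 1)
    have hdeg : P.natDegree ≤ 7 := by simp only [P]; compute_degree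
    have hP : P ≠ 0 := by
      intro h
      have := congrArg (fun Q : Polynomial F => Q.coeff 7) h
      simp only [P] at this
      ring_nf at this
      simp [Polynomial.coeff_X_pow, Polynomial.coeff_X] at this
    obtain ⟨ν, hν⟩ := exists_notMem_of_card_lt (s := P.roots.toFinset)
      (lt_of_le_of_lt ((Multiset.toFinset_card_le _).trans ((Polynomial.card_roots' P).trans hdeg)) h8)
    rw [Multiset.mem_toFinset, Polynomial.mem_roots hP, Polynomial.IsRoot.def] at hν
    simp only [P, Polynomial.eval_mul, Polynomial.eval_sub, Polynomial.eval_add, Polynomial.eval_pow,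
      Polynomial.eval_X, Polynomial.eval_C, Polynomial.eval_one, mul_eq_zero, not_or] at hν
    exact ⟨ν, hν.1.1.2, sub_ne_zero.1 hν.1.2, fun e => hν.2 (by rw [e]; ring), hν.1.1.1.1, hν.1.1.1.2⟩

section main

variable {M : Subgroup (GL (Fin 4) F)} [Fintype F]
  (hM : ∀ g : GL (Fin 4) F, IsMono g → g ∈ Cfsg.Geo.specialLinear (Fin 4) F → g ∈ M)
  (hq : 7 ≤ Fintype.card F)
include hM hq

omit hq in
/-- A column without zero: either done or the element has the shape of a twisted Fourier matrix. -/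
lemma row_of_full {g : GL (Fin 4) F} (hg : g ∈ M) {k : Fin 4} (hv : ∀ i, app g⁻¹ (ee k) i ≠ 0) :
    FixGoal M ∨ ∃ a : F, 4 * a = 1 ∧
      (∀ i, app g⁻¹ (ee k) i * app g (ee i) k = a) ∧
      (∀ s i, app g (ee i) s ≠ 0) ∧
      (∀ s, s ≠ k → ∑ i, app g⁻¹ (ee k) i * app g (ee i) s = 0) ∧
      ∀ s i j, (app g⁻¹ (ee k) i * app g (ee i) s) ^ 2 = (app g⁻¹ (ee k) j * app g (ee j) s) ^ 2 := by
  classical
  refine or_iff_not_imp_left.2 fun hno => ?_
  set v := app g⁻¹ (ee k) with hvdef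
  let cv : Fin 4 → Fˣ := fun i => Units.mk0 (v i) (hv i)
  let f : alternatingGroup (Fin 4) →* GL (Fin 4) F :=
    ((MulAut.conj (g * dg cv)).toMonoidHom.comp pgHom).comp (alternatingGroup (Fin 4)).subtype
  have hfa : ∀ p : alternatingGroup (Fin 4),
      f p = g * (dg cv * (pg (p : Equiv.Perm (Fin 4)) * dg 1) * (dg cv)⁻¹) * g⁻¹ := fun p => by
    show (g * dg cv) * pg (p : Equiv.Perm (Fin 4)) * (g * dg cv)⁻¹ = _
    rw [map_one]; group
  have hfM : ∀ p, f p ∈ M := fun p => by
    rw [hfa]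
    refine mul_mem (mul_mem hg (hM _ (((isMono_dg cv).mul (isMono_pg_dg _ _)).mul (isMono_dg cv).inv) ?_)) (inv_mem hg)
    have h1 := alt_mem_sl (F := F) (Equiv.Perm.mem_alternatingGroup.1 p.2)
    simp only [Cfsg.Geo.specialLinear, MonoidHom.mem_ker, map_mul, map_inv] at h1 ⊢
    rw [h1, mul_one, mul_inv_cancel]
  have act : ∀ p i, app (f p) (app g (ee i)) =
      (v ((p : Equiv.Perm (Fin 4)) i) / v i) • app g (ee ((p : Equiv.Perm (Fin 4)) i)) := fun p i => by
    have e1 : app (dg cv)⁻¹ (ee i) = (v i)⁻¹ • ee i := funext fun s => by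
      rw [app_dg_inv]; by_cases h : s = i
      · subst h; simp [ee, cv]
      · simp [ee, h]
    have e2 : ∀ j, app (dg cv) (ee j) = v j • ee j := fun j => funext fun s => by
      rw [app_dg]; by_cases h : s = j
      · subst h; simp [ee, cv]
      · simp [ee, h]
    rw [hfa, map_mul, map_mul, LinearEquiv.mul_apply, LinearEquiv.mul_apply, app_inv_app, map_mul,
      map_mul, LinearEquiv.mul_apply, LinearEquiv.mul_apply, e1, map_smul, app_pg_dg_ee]
    simp only [Pi.one_apply, Units.val_one, one_smul, map_smul, e2, smul_smul, div_eq_inv_mul]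
  have hfix : ∀ p, app (f p) (ee k) = ee k := fun p => by
    have h1 : app (dg cv)⁻¹ v = fun _ => 1 := funext fun i => by
      rw [app_dg_inv]; simp [cv, hv i]
    have h2 : app (pg (p : Equiv.Perm (Fin 4)) * dg 1 : GL (Fin 4) F) (fun _ => (1 : F)) = fun _ => 1 :=
      funext fun i => by rw [app_pg_dg]; simp
    have h3 : app (dg cv) (fun _ => (1 : F)) = v := funext fun i => by rw [app_dg]; simp [cv]
    rw [hfa, map_mul, map_mul, LinearEquiv.mul_apply, LinearEquiv.mul_apply, ← hvdef, map_mul, map_mul,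
      LinearEquiv.mul_apply, LinearEquiv.mul_apply, h1, h2, h3, hvdef, app_app_inv]
  have hmono : ∀ p, IsMono (f p) := fun p => by
    by_contra hnm
    exact hno ⟨f p, hfM p, hnm, k, 1, by rw [one_smul]; exact hfix p⟩
  choose π c hπ using fun p => exists_of_isMono (hmono p)
  have hcol : ∀ p s, app (f p) (ee s) = (c p s : F) • ee (π p s) := fun p s => by
    rw [hπ p]; exact app_pg_dg_ee _ _ _
  have uniq : ∀ {a b : Fin 4} {x y : F}, x ≠ 0 → x • (ee a : Fin 4 → F) = y • ee b → a = b :=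
    fun {a b x y} hx he => by
    by_contra hab
    have := congrFun he a
    simp [ee, hab, hx] at this
  let ψ : alternatingGroup (Fin 4) →* Equiv.Perm (Fin 4) := MonoidHom.mk' π fun p p' => Equiv.ext fun s => by
    have h1 := hcol (p * p') s
    rw [map_mul, map_mul, LinearEquiv.mul_apply, hcol p' s, map_smul, hcol p, smul_smul] at h1
    exact (uniq (mul_ne_zero (c p' s).ne_zero (c p (π p' s)).ne_zero) h1).symm
  have hψk : ∀ p, π p k = k := fun p => by
    have h1 := hcol p k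
    rw [hfix] at h1
    exact (uniq (one_ne_zero (α := F)) (by rw [one_smul]; exact h1)).symm
  let P₁ : alternatingGroup (Fin 4) := ⟨p₁, Equiv.Perm.mem_alternatingGroup.2 alt_facts.1⟩
  let P₂ : alternatingGroup (Fin 4) := ⟨p₂, Equiv.Perm.mem_alternatingGroup.2 alt_facts.2.1⟩
  let R₃ : alternatingGroup (Fin 4) := ⟨r₃, Equiv.Perm.mem_alternatingGroup.2 alt_facts.2.2⟩
  have lift : ∀ {x y : alternatingGroup (Fin 4)}, (x : Equiv.Perm (Fin 4)) = y → ψ x = ψ y :=
    fun h => by rw [Subtype.ext h]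
  obtain ⟨q1, q2, q3, q4⟩ := perm_facts
  obtain ⟨k1, k2⟩ := kills (π P₁) (π P₂) (π R₃) (hψk P₁) (hψk P₂)
    (by show ψ P₁ * ψ P₁ = 1; rw [← map_mul, ← map_one ψ]; exact lift q1)
    (by show ψ P₂ * ψ P₂ = 1; rw [← map_mul, ← map_one ψ]; exact lift q2)
    (by show ψ P₁ * ψ P₂ = ψ P₂ * ψ P₁; rw [← map_mul, ← map_mul]; exact lift q3)
    (by
      show (ψ R₃ * ψ P₁ = ψ P₂ * ψ R₃ ∧ ψ R₃ * ψ P₂ = ψ P₁ * ψ P₂ * ψ R₃) ∨
        (ψ R₃ * ψ P₂ = ψ P₁ * ψ R₃ ∧ ψ R₃ * ψ P₁ = ψ P₁ * ψ P₂ * ψ R₃)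
      simp only [← map_mul]
      rcases q4 with ⟨u, w⟩ | ⟨u, w⟩
      exacts [Or.inl ⟨lift u, lift w⟩, Or.inr ⟨lift u, lift w⟩])
  -- the rows
  set y : Fin 4 → Fin 4 → F := fun s i => v i * app g (ee i) s with hy
  have hrel : ∀ p, π p = 1 → ∀ s i, (c p s : F) * y s i = y s ((p : Equiv.Perm (Fin 4)) i) := by
    intro p hp s i
    have h1 := congrFun (act p i) s
    rw [hπ p, hp, app_pg_dg] at h1
    simp only [inv_one, Equiv.Perm.coe_one, id_eq, Pi.smul_apply, smul_eq_mul] at h1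
    simp only [hy]
    rw [← mul_assoc, mul_comm (c p s : F) (v i), mul_assoc, h1]
    field_simp [hv i]
  have hck : ∀ p, π p = 1 → (c p k : F) = 1 := fun p hp => by
    have h1 := congrFun (hcol p k) k
    rw [hfix, hp] at h1
    simpa [ee] using h1.symm
  have hsum : ∀ s, ∑ i, y s i = (ee k : Fin 4 → F) s := fun s => by
    have e : v = ∑ i, v i • (ee i : Fin 4 → F) := funext fun j => by
      rw [Finset.sum_apply, Finset.sum_eq_single j (fun b _ hb => by simp [ee, Ne.symm hb])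
        (fun h => absurd (Finset.mem_univ j) h)]
      simp [ee]
    have h1 := app_app_inv g (ee k)
    rw [← hvdef, e, map_sum] at h1
    rw [← h1, Finset.sum_apply]
    simp [hy]
  have hg0 : ∀ s i, app g (ee i) s ≠ 0 := by
    intro s i h0
    obtain ⟨l, hl⟩ := exists_row (g := g) s
    have hall : ∀ j, y s j = 0 := fun j => by
      have z0 : y s i = 0 := by show v i * app g (ee i) s = 0; rw [h0, mul_zero]
      have z1 : y s (p₁ i) = 0 := by rw [← hrel P₁ k1 s i, z0, mul_zero]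
      have z2 : y s (p₂ i) = 0 := by rw [← hrel P₂ k2 s i, z0, mul_zero]
      have z3 : y s (p₁ (p₂ i)) = 0 := by rw [← hrel P₁ k1 s (p₂ i), z2, mul_zero]
      rcases cover i j with rfl | rfl | rfl | rfl <;> assumption
    exact hl ((mul_eq_zero.1 (hall l)).resolve_left (hv l))
  have hsq : ∀ p, π p = 1 → (∀ x, (p : Equiv.Perm (Fin 4)) ((p : Equiv.Perm (Fin 4)) x) = x) → ∀ s i,
      y s ((p : Equiv.Perm (Fin 4)) i) ^ 2 = y s i ^ 2 := by
    intro p hp hp2 s i
    have h1 := hrel p hp s ((p : Equiv.Perm (Fin 4)) i)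
    rw [hp2, ← hrel p hp s i, ← mul_assoc] at h1
    have h2 : y s i ≠ 0 := mul_ne_zero (hv i) (hg0 s i)
    have h3 : (c p s : F) * c p s = 1 := mul_right_cancel₀ h2 (by rw [one_mul]; exact h1)
    rw [← hrel p hp s i, mul_pow, pow_two (c p s : F), h3, one_mul]
  have q1' : ∀ x, p₁ (p₁ x) = x := fun x => by rw [← Equiv.Perm.mul_apply, q1]; rfl
  have q2' : ∀ x, p₂ (p₂ x) = x := fun x => by rw [← Equiv.Perm.mul_apply, q2]; rfl
  have hrow : ∀ i j, y k j = y k i := fun i j => by
    have e1 : ∀ i, y k (p₁ i) = y k i := fun i => by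
      rw [← hrel P₁ k1 k i, hck P₁ k1, one_mul]
    have e2 : ∀ i, y k (p₂ i) = y k i := fun i => by
      rw [← hrel P₂ k2 k i, hck P₂ k2, one_mul]
    rcases cover i j with rfl | rfl | rfl | rfl <;> simp only [e1, e2]
  refine ⟨y k 0, ?_, fun i => hrow 0 i, hg0, fun s hs => ?_, fun s i j => ?_⟩
  · have h1 := hsum k
    rw [Fin.sum_univ_four, hrow 0 1, hrow 0 2, hrow 0 3] at h1
    simp only [ee, Pi.single_eq_same] at h1
    linear_combination h1
  · rw [show (∑ i, v i * app g (ee i) s) = ∑ i, y s i from rfl, hsum]; simp [ee, hs]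
  · show y s i ^ 2 = y s j ^ 2
    rcases cover i j with rfl | rfl | rfl | rfl
    · rfl
    · exact (hsq P₁ k1 q1' s i).symm
    · exact (hsq P₂ k2 q2' s i).symm
    · exact ((hsq P₁ k1 q1' s (p₂ i)).trans (hsq P₂ k2 q2' s i)).symm

/-- A column without zero. -/
lemma fix_of_full {g : GL (Fin 4) F} (hg : g ∈ M) {k : Fin 4} (hv : ∀ i, app g⁻¹ (ee k) i ≠ 0) :
    FixGoal M := by
  classical
  rcases row_of_full hM hg hv with h | ⟨a, ha, hrow, hg0, hsum, hsq⟩
  · exact h
  have h2 : (2 : F) ≠ 0 := fun e => one_ne_zero (show (1 : F) = 0 by linear_combination (2 * a) * e - ha)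
  obtain ⟨ν, h0, h1, hm1, hS⟩ := exists_good_unit h2 hq
  set v := app g⁻¹ (ee k) with hvdef
  have col : ∀ (n : Fˣ) s, app (g * dg (two 0 1 n) * g⁻¹) (ee k) s =
      ∑ i, (two (0 : Fin 4) 1 n i : F) * (v i * app g (ee i) s) := fun n s => by
    have e : app (dg (two 0 1 n)) v = ∑ i, ((two (0 : Fin 4) 1 n i : F) * v i) • (ee i : Fin 4 → F) :=
      funext fun j => by
        rw [app_dg, Finset.sum_apply, Finset.sum_eq_single j (fun b _ hb => by simp [ee, Ne.symm hb])
          (fun h => absurd (Finset.mem_univ j) h)]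
        simp [ee]
    rw [map_mul, map_mul, LinearEquiv.mul_apply, LinearEquiv.mul_apply, ← hvdef, e, map_sum,
      Finset.sum_apply]
    refine Finset.sum_congr rfl fun i _ => ?_
    rw [map_smul, Pi.smul_apply, smul_eq_mul, mul_assoc]
  set n : Fˣ := Units.mk0 ν h0 with hn
  have two01 : ∀ (n : Fˣ) (b : Fin 4 → F),
      ∑ i, (two (0 : Fin 4) 1 n i : F) * b i = (n : F) * b 0 + ((n⁻¹ : Fˣ) : F) * b 1 + b 2 + b 3 :=
    fun n b => by simp [Fin.sum_univ_four, two]
  have hSne : ν + ν⁻¹ + 2 ≠ 0 := by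
    rw [show ν + ν⁻¹ + 2 = (ν + 1) ^ 2 / ν by field_simp; ring]
    exact div_ne_zero (pow_ne_zero _ fun e => hm1 (eq_neg_of_add_eq_zero_left e)) h0
  have ha0 : a ≠ 0 := fun e => by simp [e] at ha
  have hxk : ∀ n : Fˣ, app (g * dg (two 0 1 n) * g⁻¹) (ee k) k = a * ((n : F) + ((n⁻¹ : Fˣ) : F) + 2) :=
    fun n => by
      rw [col, two01, hrow 0, hrow 1, hrow 2, hrow 3]; ring
  set x := g * dg (two 0 1 n) * g⁻¹ with hx
  have hxM : x ∈ M := mul_mem (mul_mem hg (two_mem hM (by decide) n)) (inv_mem hg)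
  have hfull : ∀ s, app x⁻¹⁻¹ (ee k) s ≠ 0 := by
    intro s
    rw [inv_inv]
    by_cases hs : s = k
    · subst hs
      rw [hxk n]
      exact mul_ne_zero ha0 (by simpa [hn] using hSne)
    · rw [col, two01]
      set b : Fin 4 → F := fun i => v i * app g (ee i) s with hb
      have hb0 : b 0 ≠ 0 := mul_ne_zero (fun e => ha0 (by rw [← hrow 0, e, zero_mul])) (hg0 s 0)
      have hbsum : b 0 + b 1 + b 2 + b 3 = 0 := by
        have := hsum s hs
        rwa [Fin.sum_univ_four] at this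
      show (n : F) * b 0 + ((n⁻¹ : Fˣ) : F) * b 1 + b 2 + b 3 ≠ 0
      intro e
      have e' : (ν - 1) * (ν * b 0 - b 1) = 0 := by
        simp [hn] at e
        field_simp at e
        linear_combination e - ν * hbsum
      have e'' : b 1 = ν * b 0 := by
        rcases mul_eq_zero.1 e' with h | h
        · exact absurd (sub_eq_zero.1 h) h1
        · linear_combination -h
      have e3 : b 0 ^ 2 = b 1 ^ 2 := hsq s 0 1
      rw [e''] at e3
      have e4 : (ν - 1) * (ν + 1) = 0 :=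
        mul_left_cancel₀ (pow_ne_zero 2 hb0) (by linear_combination -e3)
      rcases mul_eq_zero.1 e4 with h | h
      · exact h1 (sub_eq_zero.1 h)
      · exact hm1 (eq_neg_of_add_eq_zero_left h)
  rcases row_of_full hM (inv_mem hxM) hfull with h | ⟨a', ha', hrow', -, -, -⟩
  · exact h
  exfalso
  have haa : a' = a := mul_left_cancel₀ (show (4 : F) ≠ 0 by
    rw [show (4 : F) = 2 * 2 by norm_num]; exact mul_ne_zero h2 h2) (ha'.trans ha.symm)
  have hk := hrow' k
  have hxinv : x⁻¹ = g * dg (two 0 1 n⁻¹) * g⁻¹ := by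
    rw [hx, _root_.mul_inv_rev, _root_.mul_inv_rev, inv_inv, ← map_inv, ← mul_assoc]
    congr 3
    funext i
    simp only [two, Pi.inv_apply]; split_ifs <;> simp
  rw [inv_inv, hxinv, hxk, hxk, haa, inv_inv] at hk
  apply hS
  have h5 : a * ((ν + ν⁻¹ + 2) * (ν⁻¹ + ν + 2)) = 1 :=
    mul_left_cancel₀ ha0 (by simp [hn] at hk; linear_combination hk)
  linear_combination 4 * h5 - (ν + ν⁻¹ + 2) ^ 2 * ha

/-- A column with two zeros. -/
lemma fix_of_two_zeros {g : GL (Fin 4) F} (hg : g ∈ M) (hgm : ¬ IsMono g) {k i j : Fin 4} (hij : i ≠ j)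
    (hi : app g⁻¹ (ee k) i = 0) (hj : app g⁻¹ (ee k) j = 0) : FixGoal M := by
  classical
  obtain ⟨r, hr⟩ := exists_row (g := g⁻¹) i
  by_cases hex : ∃ x, x ≠ i ∧ x ≠ j ∧ app g⁻¹ (ee r) x ≠ 0
  · obtain ⟨x, hxi, hxj, hx⟩ := hex
    exact fix_of_pair hM (by omega) hg hij hi hj hxi hxj hr hx
  push Not at hex
  have four : ∀ i j : Fin 4, i ≠ j → ∃ a b, a ≠ b ∧ a ≠ i ∧ a ≠ j ∧ b ≠ i ∧ b ≠ j ∧
      ∀ z, z ≠ i → z ≠ j → z = a ∨ z = b := by decide
  obtain ⟨a, b, hab, hai, haj, hbi, hbj, hz⟩ := four i j hij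
  have hgm' : ¬ IsMono g⁻¹ := fun h => hgm (by simpa using h.inv)
  by_cases ha : app g⁻¹ (ee k) a = 0
  · exact fix_of_coord hM (inv_mem hg) hgm' (eq_single_of_off (t := b) fun z hz' => by
      by_cases h1 : z = i
      · rw [h1, hi]
      by_cases h2 : z = j
      · rw [h2, hj]
      rcases hz z h1 h2 with rfl | rfl
      exacts [ha, absurd rfl hz'])
  by_cases hb : app g⁻¹ (ee k) b = 0
  · exact fix_of_coord hM (inv_mem hg) hgm' (eq_single_of_off (t := a) fun z hz' => by
      by_cases h1 : z = i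
      · rw [h1, hi]
      by_cases h2 : z = j
      · rw [h2, hj]
      rcases hz z h1 h2 with rfl | rfl
      exacts [absurd rfl hz', hb])
  by_contra hno
  obtain ⟨ν, hν0, hν⟩ : ∃ ν : F, ν ≠ 0 ∧ ν ^ 4 ≠ 1 := by
    open Polynomial in
    let P : F[X] := (X ^ 4 - 1) * X
    have hdeg : P.natDegree ≤ 5 := by simp only [P]; compute_degree
    have hP : P ≠ 0 := by
      intro h
      have := congrArg (fun Q : Polynomial F => Q.coeff 5) h
      simp only [P] at this
      ring_nf at this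
      simp [Polynomial.coeff_X_pow, Polynomial.coeff_X] at this
    obtain ⟨ν, hν⟩ := exists_notMem_of_card_lt (s := P.roots.toFinset)
      (lt_of_le_of_lt ((Multiset.toFinset_card_le _).trans ((Polynomial.card_roots' P).trans hdeg))
        (by omega))
    rw [Multiset.mem_toFinset, Polynomial.mem_roots hP, Polynomial.IsRoot.def] at hν
    simp only [P, Polynomial.eval_mul, Polynomial.eval_sub, Polynomial.eval_pow, Polynomial.eval_X,
      Polynomial.eval_one, mul_eq_zero, not_or] at hν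
    exact ⟨ν, hν.2, sub_ne_zero.1 hν.1⟩
  set D := dg (two a b (Units.mk0 ν hν0)) with hD
  set x := g * D * g⁻¹ with hx
  have hxM : x ∈ M := mul_mem (mul_mem hg (two_mem hM hab _)) (inv_mem hg)
  have hxm : IsMono x := by
    by_contra hnm
    refine hno ⟨x, hxM, hnm, r, 1, ?_⟩
    have h1 : app D (app g⁻¹ (ee r)) = app g⁻¹ (ee r) := funext fun z => by
      rw [hD, app_dg]
      by_cases h1 : z = a
      · rw [h1, hex a hai haj, mul_zero]
      by_cases h2 : z = b
      · rw [h2, hex b hbi hbj, mul_zero]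
      simp [two, h1, h2]
    rw [hx, map_mul, map_mul, LinearEquiv.mul_apply, LinearEquiv.mul_apply, h1, app_app_inv, one_smul]
  obtain ⟨π, c, hπ⟩ := exists_of_isMono hxm
  have step : ∀ s, app D (app g⁻¹ (ee s)) = (c s : F) • app g⁻¹ (ee (π s)) := fun s => by
    apply (app g).injective
    have h1 := app_pg_dg_ee π c s
    rw [← hπ, hx, map_mul, map_mul, LinearEquiv.mul_apply, LinearEquiv.mul_apply] at h1
    rw [h1, map_smul, app_app_inv]
  set u : Fin 4 → Fin 4 → F := fun s => app g⁻¹ (ee s) with hu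
  have stepz : ∀ s z, (two a b (Units.mk0 ν hν0) z : F) * u s z = (c s : F) * u (π s) z := fun s z => by
    have h1 := congrFun (step s) z
    rwa [hD, app_dg, Pi.smul_apply, smul_eq_mul] at h1
  -- three columns in the plane of a and b
  have supp : ∀ s, (∀ z, z ≠ a → z ≠ b → u s z = 0) → ∀ z, z ≠ a → z ≠ b → u (π s) z = 0 := by
    intro s h z h1 h2
    have e := stepz s z
    rw [h z h1 h2, mul_zero] at e
    exact (mul_eq_zero.1 e.symm).resolve_left (c s).ne_zero
  have s0 : ∀ z, z ≠ a → z ≠ b → u k z = 0 := fun z h1 h2 => by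
    by_cases e1 : z = i
    · rw [e1]; exact hi
    by_cases e2 : z = j
    · rw [e2]; exact hj
    rcases hz z e1 e2 with rfl | rfl
    exacts [absurd rfl h1, absurd rfl h2]
  have ea : ∀ s, ν * u s a = (c s : F) * u (π s) a := fun s => by
    have := stepz s a; simpa [two] using this
  have eb : ∀ s, ν⁻¹ * u s b = (c s : F) * u (π s) b := fun s => by
    have := stepz s b; simpa [two, hab.symm] using this
  set l := π k with hl
  set m := π l with hm
  have hula : u l a ≠ 0 := fun e => by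
    have := ea k; rw [← hl, e, mul_zero] at this; exact mul_ne_zero hν0 ha this
  have hulb : u l b ≠ 0 := fun e => by
    have := eb k; rw [← hl, e, mul_zero] at this; exact mul_ne_zero (inv_ne_zero hν0) hb this
  have hkl : k ≠ l := fun e => by
    have h1 := ea k; have h2 := eb k
    rw [← hl, ← e] at h1 h2
    have h1' : ν = c k := mul_right_cancel₀ ha h1
    have h2' : ν⁻¹ = c k := mul_right_cancel₀ hb h2
    have hv2 : ν * ν = 1 := by
      calc ν * ν = ν * ν⁻¹ := by rw [h2', ← h1']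
        _ = 1 := mul_inv_cancel₀ hν0
    exact hν (by linear_combination (ν * ν + 1) * hv2)
  have hlm : l ≠ m := fun e => hkl (π.injective (by rw [← hl, ← hm]; exact e.symm ▸ rfl))
  have hkm : k ≠ m := fun e => by
    have h1 := ea l; have h2 := eb l
    have h1' := ea k; have h2' := eb k
    rw [← hm, ← e] at h1 h2
    rw [← hl] at h1' h2'
    have f1 : ν * (ν * u k a) = ((c k : F) * c l) * u k a := by rw [h1', mul_left_comm, h1, mul_assoc]
    have f2 : ν⁻¹ * (ν⁻¹ * u k b) = ((c k : F) * c l) * u k b := by rw [h2', mul_left_comm, h2, mul_assoc]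
    rw [← mul_assoc] at f1 f2
    have g1 := mul_right_cancel₀ ha f1
    have g2 := mul_right_cancel₀ hb f2
    apply hν
    calc ν ^ 4 = (ν * ν) * (ν * ν) := by ring
      _ = (ν * ν) * (ν⁻¹ * ν⁻¹) := by rw [g2, ← g1]
      _ = 1 := by field_simp
  have s1 := supp k s0
  rw [← hl] at s1
  have s2 := supp l s1
  rw [← hm] at s2
  let V : Submodule F (Fin 4 → F) := Submodule.span F (({ee a, ee b} : Finset (Fin 4 → F)) : Set (Fin 4 → F))
  have memV : ∀ s, (∀ z, z ≠ a → z ≠ b → u s z = 0) → u s ∈ V := fun s h => by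
    have e : u s = u s a • ee a + u s b • ee b := funext fun z => by
      by_cases h1 : z = a
      · subst h1; simp [ee, hab]
      by_cases h2 : z = b
      · subst h2; simp [ee, Ne.symm hab]
      simp [ee, h1, h2, h z h1 h2]
    rw [e]
    exact V.add_mem (V.smul_mem _ (Submodule.subset_span (by simp))) (V.smul_mem _ (Submodule.subset_span (by simp)))
  have hbas : LinearIndependent F u := by
    have h1 := (Pi.basisFun F (Fin 4)).linearIndependent.map' (app g⁻¹).toLinearMap (LinearEquiv.ker _)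
    simpa [Function.comp_def, ee, Pi.basisFun_apply, hu] using h1
  have hinj : Function.Injective ![k, l, m] := by
    intro p p'; fin_cases p <;> fin_cases p' <;> simp [hkl, hlm, hkm, Ne.symm hkl, Ne.symm hlm, Ne.symm hkm]
  have hli := hbas.comp _ hinj
  have hmem : ∀ p, (u ∘ ![k, l, m]) p ∈ V := fun p => by
    fin_cases p
    exacts [memV _ s0, memV _ s1, memV _ s2]
  have hli' : LinearIndependent F fun p => (⟨_, hmem p⟩ : V) := LinearIndependent.of_comp V.subtype hli
  have h1 := hli'.fintype_card_le_finrank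
  have h2 : Module.finrank F V ≤ ({ee a, ee b} : Finset (Fin 4 → F)).card := finrank_span_finset_le_card _
  have h3 : ({ee a, ee b} : Finset (Fin 4 → F)).card ≤ 2 := Finset.card_le_two
  rw [Fintype.card_fin] at h1
  omega

lemma exists_fix {g : GL (Fin 4) F} (hg : g ∈ M) (hgm : ¬ IsMono g) : FixGoal M := by
  classical
  by_contra hno
  have hone : ∀ {g : GL (Fin 4) F}, g ∈ M → ¬ IsMono g → ∀ k,
      ∃ z, app g (ee k) z = 0 ∧ ∀ i, i ≠ z → app g (ee k) i ≠ 0 :=
    fun {g} hg hgm k => by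
    by_cases h0 : ∀ i, app g (ee k) i ≠ 0
    · exact absurd (fix_of_full hM hq (inv_mem hg) (k := k) (by simpa only [inv_inv] using h0)) hno
    push Not at h0
    obtain ⟨z, hz⟩ := h0
    refine ⟨z, hz, fun i hiz hi => hno (fix_of_two_zeros hM hq (inv_mem hg) (fun h => hgm (by simpa using h.inv))
      (k := k) hiz ?_ ?_)⟩ <;> simpa only [inv_inv]
  choose zc hzc hzn using hone hg hgm
  choose zi hzi hzin using hone (inv_mem hg) (fun h => hgm (by simpa using h.inv))
  -- a column of an element of M with two non-zero entries and at least two zeros, or none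
  have bad : ∀ {x : GL (Fin 4) F}, x ∈ M → ∀ s a b, a ≠ b → app x (ee s) a ≠ 0 → app x (ee s) b ≠ 0 →
      ((∀ i, app x (ee s) i ≠ 0) ∨ ∃ z z', z ≠ z' ∧ app x (ee s) z = 0 ∧ app x (ee s) z' = 0) →
      False := by
    intro x hx s a b hab ha hb h
    have hxm : ¬ IsMono x := fun hm => by
      obtain ⟨r, hr⟩ := hm s
      rcases eq_or_ne a r with rfl | har
      · exact hb (hr b hab.symm)
      · exact ha (hr a har)
    rcases h with h | ⟨z, z', hne, h1, h2⟩
    · exact hno (fix_of_full hM hq (inv_mem hx) (k := s) (by simpa only [inv_inv] using h))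
    · exact hno (fix_of_two_zeros hM hq (inv_mem hx) (fun h => hxm (by simpa using h.inv))
        (k := s) hne (by simpa only [inv_inv] using h1) (by simpa only [inv_inv] using h2))
  -- columns of torus conjugates
  have col : ∀ (cs : Fin 4 → Fˣ) (s k : Fin 4), app (g * dg cs * g⁻¹) (ee s) k =
      (ee s : Fin 4 → F) k + ∑ p, ((cs p : F) - 1) * app g⁻¹ (ee s) p * app g (ee p) k := by
    intro cs s k
    set u := app g⁻¹ (ee s) with hu
    have e : app (dg cs) u = u + ∑ p, (((cs p : F) - 1) * u p) • (ee p : Fin 4 → F) := funext fun q => by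
      rw [app_dg, Pi.add_apply, Finset.sum_apply, Finset.sum_eq_single q
        (fun b _ hb => by simp [ee, Ne.symm hb]) (fun h => absurd (Finset.mem_univ q) h)]
      simp [ee]; ring
    rw [map_mul, map_mul, LinearEquiv.mul_apply, LinearEquiv.mul_apply, ← hu, e, map_add, map_sum,
      hu, app_app_inv, Pi.add_apply, Finset.sum_apply]
    congr 1
    refine Finset.sum_congr rfl fun p _ => ?_
    rw [map_smul, Pi.smul_apply, smul_eq_mul]
  have hgi : ∀ s p, p ≠ zi s → app g⁻¹ (ee s) p ≠ 0 := hzin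
  -- column zeros of g avoid s
  have hz_ne : ∀ s p, p ≠ zi s → zc p ≠ s := by
    intro s p hp e
    obtain ⟨ν, hν0, hν1⟩ := exists_unit_avoid (by omega : 5 ≤ Fintype.card F) ({1} : Finset F) (by simp; try omega)
    rw [Finset.mem_singleton] at hν1
    set cs := two p (zi s) (Units.mk0 ν hν0) with hcs
    have hx : ∀ k, app (g * dg cs * g⁻¹) (ee s) k =
        (ee s : Fin 4 → F) k + (ν - 1) * app g⁻¹ (ee s) p * app g (ee p) k := fun k => by
      rw [col, Finset.sum_eq_single p (fun b _ hb => ?_) (fun h => absurd (Finset.mem_univ p) h)]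
      · simp [hcs, two]
      · by_cases hbz : b = zi s
        · subst hbz; rw [hzi]; simp
        · simp [hcs, two, hb, hbz]
    have hne : ∀ k, app (g * dg cs * g⁻¹) (ee s) k ≠ 0 := fun k => by
      rw [hx]
      by_cases hks : k = s
      · subst hks; rw [← e, hzc]; simp [ee]
      · simp only [ee, Pi.single_eq_of_ne hks, zero_add]
        exact mul_ne_zero (mul_ne_zero (sub_ne_zero.2 hν1) (hgi _ _ hp)) (hzn p k (e.symm ▸ hks))
    obtain ⟨a, ha⟩ := exists_notMem_of_card_lt (s := ({s} : Finset (Fin 4))) (by simp; try omega)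
    exact bad (mul_mem (mul_mem hg (two_mem hM hp _)) (inv_mem hg)) s s a
      (fun h => ha (by simp [h])) (hne s) (hne a) (Or.inl hne)
  obtain ⟨s0⟩ : Nonempty (Fin 4) := ⟨0⟩
  -- two columns with different zeros
  obtain ⟨j, l, hj, hl, hjl⟩ : ∃ j l, j ≠ zi s0 ∧ l ≠ zi s0 ∧ zc j ≠ zc l := by
    by_contra h
    push Not at h
    obtain ⟨j, hj⟩ := exists_notMem_of_card_lt (s := ({zi s0} : Finset (Fin 4))) (by simp; try omega)
    rw [Finset.mem_singleton] at hj
    obtain ⟨p, hp⟩ := exists_notMem_of_card_lt (s := ({zi s0, zi (zc j)} : Finset (Fin 4)))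
      (lt_of_le_of_lt Finset.card_le_two (by rw [Fintype.card_fin]; norm_num))
    simp only [Finset.mem_insert, Finset.mem_singleton, not_or] at hp
    exact hz_ne (zc j) p hp.2 (h p j hp.1 hj)
  set i0 := zi s0 with hi0
  have hjl' : j ≠ l := fun e => hjl (by rw [e])
  have hzjs := hz_ne s0 j hj
  have hzls := hz_ne s0 l hl
  set u := app g⁻¹ (ee s0) with hu
  set A := fun k => u j * app g (ee j) k with hA
  set B := fun k => u l * app g (ee l) k with hB
  have hA0 : ∀ k, k ≠ zc j → A k ≠ 0 := fun k hk => mul_ne_zero (hgi s0 j hj) (hzn j k hk)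
  have hB0 : ∀ k, k ≠ zc l → B k ≠ 0 := fun k hk => mul_ne_zero (hgi s0 l hl) (hzn l k hk)
  -- the normalisation u_p g_sp = 1
  have hw1 : ∀ p, p ≠ i0 → u p * app g (ee p) s0 = 1 := by
    intro p hp
    by_contra hne
    set w := u p * app g (ee p) s0 with hw
    have hw0 : w ≠ 0 := mul_ne_zero (hgi s0 p hp) (hzn p s0 (Ne.symm (hz_ne s0 p hp)))
    have hl0 : 1 - w⁻¹ ≠ 0 := fun e => hne (by
      rw [sub_eq_zero] at e; simpa using (congrArg (·⁻¹) e).symm)
    set cs := two p i0 (Units.mk0 _ hl0) with hcs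
    have hx : ∀ k, app (g * dg cs * g⁻¹) (ee s0) k =
        (ee s0 : Fin 4 → F) k + (-w⁻¹) * (u p * app g (ee p) k) := fun k => by
      rw [col, Finset.sum_eq_single p (fun b _ hb => ?_) (fun h => absurd (Finset.mem_univ p) h)]
      · simp [hcs, two, hu]; ring
      · by_cases hbz : b = i0
        · subst hbz; rw [hi0, hzi]; simp
        · simp [hcs, two, hb, hbz]
    have hs : app (g * dg cs * g⁻¹) (ee s0) s0 = 0 := by
      rw [hx, ← hw, neg_mul, inv_mul_cancel₀ hw0]; simp [ee]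
    have hzp : app (g * dg cs * g⁻¹) (ee s0) (zc p) = 0 := by
      rw [hx, hzc, mul_zero, mul_zero]; simp [ee, hz_ne s0 p hp]
    obtain ⟨a, ha⟩ := exists_notMem_of_card_lt (s := ({s0, zc p} : Finset (Fin 4)))
      (lt_of_le_of_lt Finset.card_le_two (by rw [Fintype.card_fin]; norm_num))
    obtain ⟨b, hb⟩ := exists_notMem_of_card_lt (s := ({s0, zc p, a} : Finset (Fin 4)))
      (lt_of_le_of_lt Finset.card_le_three (by rw [Fintype.card_fin]; norm_num))
    simp only [Finset.mem_insert, Finset.mem_singleton, not_or] at ha hb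
    have hnz : ∀ k, k ≠ s0 → k ≠ zc p → app (g * dg cs * g⁻¹) (ee s0) k ≠ 0 := fun k h1 h2 => by
      rw [hx]
      simp only [ee, Pi.single_eq_of_ne h1, zero_add]
      exact mul_ne_zero (neg_ne_zero.2 (inv_ne_zero hw0)) (mul_ne_zero (hgi s0 p hp) (hzn p k h2))
    exact bad (mul_mem (mul_mem hg (two_mem hM hp _)) (inv_mem hg)) s0 a b (Ne.symm hb.2.2)
      (hnz a ha.1 ha.2) (hnz b hb.1 hb.2.1) (Or.inr ⟨s0, zc p, Ne.symm (hz_ne s0 p hp), hs, hzp⟩)
  -- three-point torus elements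
  let d3 : Fˣ → Fˣ → Fin 4 → Fˣ := fun a b k =>
    if k = j then a else if k = l then b else if k = i0 then (a * b)⁻¹ else 1
  have hd3 : ∀ a b, dg (d3 a b) ∈ M := fun a b => hM _ (isMono_dg _) (by
    rw [mem_sl_iff, det_dg, ← Finset.mul_prod_erase _ _ (Finset.mem_univ j),
      ← Finset.mul_prod_erase _ _ (Finset.mem_erase.2 ⟨Ne.symm hjl', Finset.mem_univ l⟩),
      ← Finset.mul_prod_erase _ _ (Finset.mem_erase.2 ⟨Ne.symm hl, Finset.mem_erase.2
        ⟨Ne.symm hj, Finset.mem_univ i0⟩⟩)]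
    rw [Finset.prod_eq_one fun k hk => by
      simp only [Finset.mem_erase] at hk
      simp [d3, hk.1, hk.2.1, hk.2.2.1]]
    simp [d3, Ne.symm hjl', Ne.symm hj, Ne.symm hl])
  have hx3 : ∀ (a b : Fˣ) k, app (g * dg (d3 a b) * g⁻¹) (ee s0) k =
      (ee s0 : Fin 4 → F) k + ((a : F) - 1) * A k + ((b : F) - 1) * B k := fun a b k => by
    rw [col, ← Finset.add_sum_erase _ _ (Finset.mem_univ j),
      ← Finset.add_sum_erase _ _ (Finset.mem_erase.2 ⟨Ne.symm hjl', Finset.mem_univ l⟩)]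
    rw [Finset.sum_eq_zero fun p hp => ?_]
    · simp [d3, Ne.symm hjl', hA, hB, hu]; ring
    · simp only [Finset.mem_erase] at hp
      by_cases hpi : p = i0
      · subst hpi; rw [hi0, hzi]; simp
      · simp [d3, hp.1, hp.2.1, hpi]
  have hAs : A s0 = 1 := hw1 j hj
  have hBs : B s0 = 1 := hw1 l hl
  have hAzj : A (zc j) = 0 := by simp only [hA, hzc, mul_zero]
  have hBzl : B (zc l) = 0 := by simp only [hB, hzc, mul_zero]
  by_cases hex : ∃ r, r ≠ s0 ∧ r ≠ zc j ∧ r ≠ zc l ∧ A r ≠ B r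
  · obtain ⟨r, hrs, hrj, hrl, hne⟩ := hex
    have hd : A r - B r ≠ 0 := sub_ne_zero.2 hne
    set α := A r / (A r - B r) with hα
    set γ := -(B r) / (A r - B r) with hγ
    have hα0 : α ≠ 0 := div_ne_zero (hA0 r hrj) hd
    have hγ0 : γ ≠ 0 := div_ne_zero (neg_ne_zero.2 (hB0 r hrl)) hd
    have hαγ : α + γ = 1 := by rw [hα, hγ]; field_simp; ring
    have hx := hx3 (Units.mk0 α hα0) (Units.mk0 γ hγ0)
    simp only [Units.val_mk0] at hx
    refine bad (mul_mem (mul_mem hg (hd3 (Units.mk0 α hα0) (Units.mk0 γ hγ0))) (inv_mem hg))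
      s0 (zc j) (zc l) hjl ?_ ?_ (Or.inr ⟨s0, r, hrs.symm, ?_, ?_⟩)
    · rw [hx, hAzj]
      simp only [ee, Pi.single_eq_of_ne hzjs, mul_zero, zero_add]
      exact mul_ne_zero (fun e => hα0 (by linear_combination hαγ - e)) (hB0 _ hjl)
    · rw [hx, hBzl]
      simp only [ee, Pi.single_eq_of_ne hzls, mul_zero, zero_add, add_zero]
      exact mul_ne_zero (fun e => hγ0 (by linear_combination hαγ - e)) (hA0 _ hjl.symm)
    · rw [hx, hAs, hBs]; simp [ee]; linear_combination hαγ
    · rw [hx]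
      simp only [ee, Pi.single_eq_of_ne hrs, zero_add, hα, hγ]
      field_simp; ring
  · push Not at hex
    have hq5 : 5 ≤ Fintype.card F := by omega
    obtain ⟨β, hβ0, hβ⟩ := exists_unit_avoid hq5 ({1} : Finset F) (by simp; omega)
    rw [Finset.mem_singleton] at hβ
    obtain ⟨γ, hγ0, hγ⟩ := exists_unit_avoid hq5 ({1, 1 - β, 2 - β} : Finset F)
      (lt_of_le_of_lt (Nat.add_le_add_right Finset.card_le_three 1) (by omega))
    simp only [Finset.mem_insert, Finset.mem_singleton, not_or] at hγ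
    have hb1 : β - 1 ≠ 0 := sub_ne_zero.2 hβ
    have hc1 : γ - 1 ≠ 0 := sub_ne_zero.2 hγ.1
    have hx := hx3 (Units.mk0 β hβ0) (Units.mk0 γ hγ0)
    simp only [Units.val_mk0] at hx
    have hzj0 : app (g * dg (d3 (Units.mk0 β hβ0) (Units.mk0 γ hγ0)) * g⁻¹) (ee s0) (zc j) ≠ 0 := by
      rw [hx, hAzj]
      simp only [ee, Pi.single_eq_of_ne hzjs, mul_zero, zero_add]
      exact mul_ne_zero hc1 (hB0 _ hjl)
    have hzl0 : app (g * dg (d3 (Units.mk0 β hβ0) (Units.mk0 γ hγ0)) * g⁻¹) (ee s0) (zc l) ≠ 0 := by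
      rw [hx, hBzl]
      simp only [ee, Pi.single_eq_of_ne hzls, mul_zero, zero_add, add_zero]
      exact mul_ne_zero hb1 (hA0 _ hjl.symm)
    refine bad (mul_mem (mul_mem hg (hd3 (Units.mk0 β hβ0) (Units.mk0 γ hγ0))) (inv_mem hg))
      s0 (zc j) (zc l) hjl hzj0 hzl0 (Or.inl fun k => ?_)
    by_cases hks : k = s0
    · subst hks
      rw [hx, hAs, hBs]
      simp only [ee, Pi.single_eq_same]
      intro e
      exact hγ.2.1 (by linear_combination e)
    · by_cases hkj : k = zc j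
      · subst hkj; exact hzj0
      by_cases hkl : k = zc l
      · subst hkl; exact hzl0
      rw [hx, hex k hks hkj hkl]
      simp only [ee, Pi.single_eq_of_ne hks, zero_add]
      intro e
      exact mul_ne_zero (fun e' : β + γ - 2 = 0 => hγ.2.2 (by linear_combination e')) (hB0 k hkl)
        (by linear_combination e)

/-- The monomial subgroup of `SL_4(q)` is maximal for `q ≥ 7`. -/
theorem sl_le_of_not_mono (hSL : M ≤ Cfsg.Geo.specialLinear (Fin 4) F) {g : GL (Fin 4) F} (hg : g ∈ M)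
    (hgm : ¬ IsMono g) : Cfsg.Geo.specialLinear (Fin 4) F ≤ M := by
  obtain ⟨x, hx, hxm, t, d, hd⟩ := exists_fix hM hq hg hgm
  exact sl_le_of_fix hM (by simp) (by omega) hSL hx hxm hd

end main

/-- Overgroups of the stabiliser of a decomposition into four lines. -/
theorem sl_le_of_not_line {t : ℕ} {D : Fin t → Submodule F (Fin 4 → F)} (hD : Cfsg.Geo.IsMDecomposition 1 D) [Fintype F]
    (hq : 7 ≤ Fintype.card F) {M : Subgroup (GL (Fin 4) F)}
    (hH : Cfsg.Geo.decompositionStabilizer D ⊓ Cfsg.Geo.specialLinear (Fin 4) F ≤ M)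
    (hSL : M ≤ Cfsg.Geo.specialLinear (Fin 4) F) {g : GL (Fin 4) F} (hg : g ∈ M)
    (hgH : g ∉ Cfsg.Geo.decompositionStabilizer D) : Cfsg.Geo.specialLinear (Fin 4) F ≤ M := by
  obtain ⟨e, P, hP⟩ := exists_lineBasis hD
  set M' : Subgroup (GL (Fin 4) F) := M.comap (MulAut.conj P).toMonoidHom with hM'
  have hmem : ∀ x : GL (Fin 4) F, x ∈ M' ↔ P * x * P⁻¹ ∈ M := fun x => Iff.rfl
  have hdet : ∀ x : GL (Fin 4) F, P * x * P⁻¹ ∈ Cfsg.Geo.specialLinear (Fin 4) F ↔
      x ∈ Cfsg.Geo.specialLinear (Fin 4) F := fun x => by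
    simp only [Cfsg.Geo.specialLinear, MonoidHom.mem_ker, map_mul, map_inv]
    rw [mul_comm, ← mul_assoc, inv_mul_cancel, one_mul]
  have hspan : ∀ k, ∀ x ∈ D (e k), ∃ c : F, x = c • app P (ee k) := fun k x hx => by
    have hne : app P (ee k) ≠ 0 := by
      intro h
      simpa [ee] using (app P).map_eq_zero_iff.1 h
    have h1 : Submodule.span F {app P (ee k)} = D (e k) := by
      refine Submodule.eq_of_le_of_finrank_eq ((Submodule.span_singleton_le_iff_mem _ _).2 (hP k)) ?_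
      rw [finrank_span_singleton hne, hD.finrank_eq]
    rw [← h1] at hx
    obtain ⟨c, hc⟩ := Submodule.mem_span_singleton.1 hx
    exact ⟨c, hc.symm⟩
  have hmono : ∀ x : GL (Fin 4) F, IsMono x → P * x * P⁻¹ ∈ Cfsg.Geo.decompositionStabilizer D := by
    intro x hx
    obtain ⟨π, c, rfl⟩ := exists_of_isMono hx
    refine BlockMap.mem hD (σ := (e.symm.trans π).trans e) fun i v hv => ?_
    obtain ⟨a, rfl⟩ := hspan (e.symm i) v (by simpa using hv)
    rw [map_smul, map_mul, map_mul, LinearEquiv.mul_apply, LinearEquiv.mul_apply, app_inv_app,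
      app_pg_dg_ee, map_smul]
    exact Submodule.smul_mem _ _ (Submodule.smul_mem _ _ (hP _))
  have h' : Cfsg.Geo.specialLinear (Fin 4) F ≤ M' := by
    refine sl_le_of_not_mono (M := M') (g := P⁻¹ * g * P) (fun x hx hxS => ?_) hq ?_ ?_ ?_
    · exact (hmem x).2 (hH ⟨hmono x hx, (hdet x).2 hxS⟩)
    · exact fun x hx => (hdet x).1 (hSL ((hmem x).1 hx))
    · rw [hmem]; simpa [mul_assoc] using hg
    · intro hc
      apply hgH
      simpa [mul_assoc] using hmono _ hc
  intro x hx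
  have h1 : P⁻¹ * x * P ∈ Cfsg.Geo.specialLinear (Fin 4) F :=
    (hdet _).1 (by simpa [mul_assoc] using hx)
  simpa [mul_assoc] using (hmem _).1 (h' h1)

end Cfsg.Agent.SL4Max
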