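/-
The similarities of a quadratic form on a four-dimensional space over a field of odd order are maximal
in `SL`. An element outside the group either maps a singular vector to a singular one, and then gives a
transvection, or the translates of the quadric are too many disjoint sets of points.
Main results: `exists_transvection`, `sl_le_of_transvection`, `quadSimilarity_maximal`.
-/
import Cfsg.Agent.Lib.Transvect.OrthInSL

set_option autoImplicit false
set_option linter.unusedSectionVars false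
set_option linter.unusedVariables false

namespace Cfsg.Agent.SL4Max.Orth4

open Cfsg Matrix Module
open Cfsg.Agent.Transvect
open QuadraticMap (polar)
open Orth (IsoGrp ap eich HPair perp wPart refl)
open scoped MatrixGroups

variable {ι : Type} [Fintype ι] [DecidableEq ι] {F : Type*} [Field F] [Fintype F]
variable {Q : QuadraticForm F (ι → F)}

/-- A similarity of `Q`. -/
def IsSim (Q : QuadraticForm F (ι → F)) (g : GL ι F) : Prop :=
  ∃ c : Fˣ, ∀ v, Q (app g v) = (c : F) * Q v

lemma sim_polar {g : GL ι F} {c : F} (h : ∀ v, Q (app g v) = c * Q v) (x y : ι → F) :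
    polar ⇑Q (app g x) (app g y) = c * polar ⇑Q x y := by
  simp only [polar, ← map_add, h]; ring

lemma IsSim.of_polar (h2 : (2 : F) ≠ 0) {g : GL ι F} {c : F} (hc : c ≠ 0)
    (h : ∀ x y, polar ⇑Q (app g x) (app g y) = c * polar ⇑Q x y) : IsSim Q g :=
  ⟨Units.mk0 c hc, fun v => by
    have h1 := h v v
    rw [Orth.pl_self, Orth.pl_self] at h1
    exact mul_left_cancel₀ h2 (by rw [Units.val_mk0]; linear_combination h1)⟩

lemma IsSim.inv {g : GL ι F} (h : IsSim Q g) : IsSim Q g⁻¹ := by
  obtain ⟨c, hc⟩ := h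
  refine ⟨c⁻¹, fun v => ?_⟩
  have h1 := hc (app g⁻¹ v)
  rw [app_app_inv] at h1
  rw [h1, ← mul_assoc, Units.inv_mul, one_mul]

lemma IsSim.mul {g k : GL ι F} (h : IsSim Q g) (h' : IsSim Q k) : IsSim Q (g * k) := by
  obtain ⟨c, hc⟩ := h
  obtain ⟨d, hd⟩ := h'
  exact ⟨c * d, fun v => by rw [map_mul, LinearEquiv.mul_apply, hc, hd, Units.val_mul, mul_assoc]⟩

lemma isSim_coe (h : IsoGrp Q) : IsSim Q (h : GL ι F) :=
  ⟨1, fun v => by rw [Units.val_one, one_mul]; exact Orth.Q_ap h v⟩

lemma app_coe (h : IsoGrp Q) (x : ι → F) : app (h : GL ι F) x = ap h x := rfl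

/-- An Eichler element is a product of two transvection matrices. -/
lemma eich_eq_tv {u w : ι → F} (hu : Q u = 0) (hw : polar ⇑Q u w = 0) :
    (eich Q u w : GL ι F) = tv w (Q.polarBilin u) * tv u (-Q.polarBilin w - Q w • Q.polarBilin u) := by
  have huu : polar ⇑Q u u = 0 := by rw [Orth.pl_self, hu, mul_zero]
  refine gl_ext fun x => ?_
  rw [app_coe, Orth.eich_ap hu hw, map_mul, LinearEquiv.mul_apply,
    tv_apply (by simpa using hw), tv_apply (by simp [Orth.pl_comm Q w u, hw, hu, Orth.pl_self])]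
  simp only [LinearMap.sub_apply, LinearMap.neg_apply, LinearMap.smul_apply, smul_eq_mul,
    QuadraticMap.polarBilin_apply_apply, Orth.pl_add_right, Orth.pl_smul_right, huu, mul_zero, add_zero]
  module

variable (hQ : Q.polarBilin.Nondegenerate) (h2 : (2 : F) ≠ 0) (hn : Fintype.card ι = 4)
variable {M : Subgroup (GL ι F)}
  (hM : ∀ h : GL ι F, IsSim Q h → h ∈ Cfsg.Geo.specialLinear ι F → h ∈ M)
  (hMS : M ≤ Cfsg.Geo.specialLinear ι F)

include hM in
lemma eich_mem {u w : ι → F} (hu : Q u = 0) (hw : polar ⇑Q u w = 0) : (eich Q u w : GL ι F) ∈ M :=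
  hM _ (isSim_coe _) (by rw [eich_eq_tv hu hw]; exact mul_mem (tv_mem_sl _ _) (tv_mem_sl _ _))

include hM in
lemma refl_pair_mem {a b : ι → F} (ha : Q a ≠ 0) (hb : Q b ≠ 0) :
    ((refl Q a * refl Q b : IsoGrp Q) : GL ι F) ∈ M :=
  hM _ (isSim_coe _) (by
    rw [mem_sl_iff, Orth.coe_mul_mat, Matrix.det_mul, Orth.det_refl ha, Orth.det_refl hb]; ring)

/-! ### A transvection -/

include hQ h2 hM hMS in
/-- A similarity on `u⊥` differs from a similarity by a transvection. -/
lemma from_perp {g : GL ι F} (hg : g ∈ M) (hns : ¬ IsSim Q g) {u : ι → F} (hu : Q u = 0) (hu0 : u ≠ 0)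
    {c : F} (hc : c ≠ 0) (hgu : ∀ z, polar ⇑Q (app g u) (app g z) = c * polar ⇑Q u z)
    (hperp : ∀ z z', polar ⇑Q u z = 0 → polar ⇑Q u z' = 0 →
      polar ⇑Q (app g z) (app g z') = c * polar ⇑Q z z') :
    ∃ v, v ≠ 0 ∧ polar ⇑Q u v = 0 ∧ tv v (Q.polarBilin u) ∈ M := by
  obtain ⟨f, hp⟩ := Orth.exists_hpair_left hQ hu hu0
  have huu : polar ⇑Q u u = 0 := by rw [Orth.pl_self, hu, mul_zero]
  have hfu : polar ⇑Q f u = 1 := by rw [Orth.pl_comm]; exact hp.pf
  let η : (ι → F) →ₗ[F] F := Q.polarBilin (app g f) ∘ₗ (app g).toLinearMap - c • Q.polarBilin f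
  obtain ⟨z0, hz0⟩ : ∃ z, Q.polarBilin z = η := ⟨_, LinearEquiv.apply_symm_apply
    (LinearMap.BilinForm.toDual Q.polarBilin hQ) η⟩
  have hη : ∀ z, polar ⇑Q z0 z = polar ⇑Q (app g f) (app g z) - c * polar ⇑Q f z := fun z =>
    LinearMap.congr_fun hz0 z
  have hz0u : polar ⇑Q u z0 = 0 := by
    rw [Orth.pl_comm, hη, Orth.pl_comm Q (app g f), hgu, hp.pf, hfu]; ring
  obtain ⟨v0, hv0⟩ : ∃ v0, v0 = (-c⁻¹) • z0 := ⟨_, rfl⟩
  have hv0u : polar ⇑Q u v0 = 0 := by rw [hv0, Orth.pl_smul_right, hz0u, mul_zero]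
  obtain ⟨r, hr⟩ : ∃ r, r = -Q (app g (f + v0)) / c := ⟨_, rfl⟩
  obtain ⟨v, hv⟩ : ∃ v, v = v0 + r • u := ⟨_, rfl⟩
  have hvu : polar ⇑Q u v = 0 := by
    rw [hv, Orth.pl_add_right, Orth.pl_smul_right, hv0u, huu, mul_zero, add_zero]
  have hlin : ∀ z, polar ⇑Q u z = 0 → polar ⇑Q (app g (f + v)) (app g z) = c * polar ⇑Q f z := fun z hz => by
    rw [hv, map_add, map_add, map_smul, Orth.pl_add_left, Orth.pl_add_left, Orth.pl_smul_left, hgu, hz,
      hperp v0 z hv0u hz, hv0, Orth.pl_smul_left, hη]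
    field_simp
    ring
  have hQf : Q (app g (f + v)) = 0 := by
    rw [hv, ← add_assoc, map_add, map_smul, Orth.Q_add, Orth.Q_smul, Orth.pl_smul_right,
      Orth.pl_comm Q (app g (f + v0)), hgu, Orth.pl_add_right, hp.pf, hv0u]
    have h1 : Q (app g u) = 0 := by
      have h3 := hgu u
      rw [Orth.pl_self, huu, mul_zero, mul_eq_zero] at h3
      exact h3.resolve_left h2
    rw [h1, hr]
    field_simp
    ring
  set s := g * tv v (Q.polarBilin u) with hs
  have hsim : IsSim Q s := by
    refine ⟨Units.mk0 c hc, fun x => ?_⟩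
    set t := polar ⇑Q u x with ht
    set z := x - t • f with hz
    have hzu : polar ⇑Q u z = 0 := by
      rw [hz, Orth.pl_sub_right, Orth.pl_smul_right, hp.pf, mul_one, sub_self]
    have hx : x = t • f + z := by rw [hz]; abel
    have e : app s x = t • app g (f + v) + app g z := by
      rw [hs, map_mul, LinearEquiv.mul_apply, tv_apply (by simpa using hvu),
        QuadraticMap.polarBilin_apply_apply, ← ht, ← map_smul, ← map_add]
      congr 1
      rw [hz]; module
    have hQz : Q (app g z) = c * Q z := by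
      have h3 := hperp z z hzu hzu
      rw [Orth.pl_self, Orth.pl_self] at h3
      exact mul_left_cancel₀ h2 (by linear_combination h3)
    rw [e, Units.val_mk0, Orth.Q_add, Orth.Q_smul, hQf, Orth.pl_smul_left, hlin z hzu, hQz]
    conv_rhs => rw [hx, Orth.Q_add, Orth.Q_smul, hp.qf, Orth.pl_smul_left]
    ring
  have hsM : s ∈ M := hM s hsim (mul_mem (hMS hg) (tv_mem_sl _ _))
  refine ⟨v, fun h0 => hns ?_, hvu, ?_⟩
  · have : s = g := by
      rw [hs, h0]
      have : tv (0 : ι → F) (Q.polarBilin u) = 1 := gl_ext fun x => by rw [tv_apply (by simp)]; simp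
      rw [this, mul_one]
    exact this ▸ hsim
  · have h3 := mul_mem (inv_mem hg) hsM
    rwa [hs, inv_mul_cancel_left] at h3

include hQ h2 hM hMS in
/-- An element preserving the polar hyperplane of a singular vector. -/
lemma from_rad {g : GL ι F} (hg : g ∈ M) (hns : ¬ IsSim Q g) {u : ι → F} (hu : Q u = 0) (hu0 : u ≠ 0)
    {c : F} (hc : c ≠ 0) (hgu : ∀ z, polar ⇑Q (app g u) (app g z) = c * polar ⇑Q u z) :
    ∃ u' v, Q u' = 0 ∧ u' ≠ 0 ∧ v ≠ 0 ∧ polar ⇑Q u' v = 0 ∧ tv v (Q.polarBilin u') ∈ M := by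
  by_cases hperp : ∀ z z', polar ⇑Q u z = 0 → polar ⇑Q u z' = 0 →
      polar ⇑Q (app g z) (app g z') = c * polar ⇑Q z z'
  · obtain ⟨v, h1, h3, h4⟩ := from_perp hQ h2 hM hMS hg hns hu hu0 hc hgu hperp
    exact ⟨u, v, hu, hu0, h1, h3, h4⟩
  push Not at hperp
  obtain ⟨w, z', hw, hz', hne⟩ := hperp
  obtain ⟨f, hp⟩ := Orth.exists_hpair_left hQ hu hu0
  have huu : polar ⇑Q u u = 0 := by rw [Orth.pl_self, hu, mul_zero]
  have hQgu : Q (app g u) = 0 := by
    have h1 := hgu u
    rw [Orth.pl_self, huu, mul_zero, mul_eq_zero] at h1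
    exact h1.resolve_left h2
  set k := g * (eich Q u w : GL ι F) * g⁻¹ with hk
  have hkM : k ∈ M := mul_mem (mul_mem hg (eich_mem hM hu hw)) (inv_mem hg)
  have hkg : ∀ z, app k (app g z) =
      app g z + polar ⇑Q u z • app g w - (polar ⇑Q w z + Q w * polar ⇑Q u z) • app g u := fun z => by
    rw [hk, map_mul, map_mul, LinearEquiv.mul_apply, LinearEquiv.mul_apply, app_inv_app, app_coe,
      Orth.eich_ap hu hw, map_sub, map_add, map_smul, map_smul]
  have hku : app k (app g u) = app g u := by rw [hkg, huu, Orth.pl_comm Q w u, hw]; simp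
  have hrad : ∀ y, polar ⇑Q (app k (app g u)) (app k y) = 1 * polar ⇑Q (app g u) y := fun y => by
    obtain ⟨z, rfl⟩ := (app g).surjective y
    rw [hku, hkg, one_mul, Orth.pl_sub_right, Orth.pl_add_right, Orth.pl_smul_right, Orth.pl_smul_right,
      hgu w, hgu u, hw, huu]
    ring
  have hns' : ¬ IsSim Q k := by
    rintro ⟨d, hd⟩
    have h1 := sim_polar hd (app g u) (app g f)
    rw [hrad, one_mul, hgu, hp.pf, mul_one] at h1
    have hd1 : (d : F) = 1 := mul_right_cancel₀ hc (by rw [one_mul]; exact h1.symm)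
    have h3 := sim_polar hd (app g f) (app g z')
    rw [hd1, one_mul, hkg, hkg, hp.pf, hz', one_smul, zero_smul, add_zero] at h3
    simp only [Orth.pl_sub_left, Orth.pl_add_left, Orth.pl_sub_right, Orth.pl_smul_left,
      Orth.pl_smul_right, Orth.pl_comm Q (app g f) (app g u), Orth.pl_comm Q (app g w) (app g u), hgu,
      hp.pf, hw, hz', huu] at h3
    apply hne
    linear_combination h3
  obtain ⟨v, h1, h3, h4⟩ := from_perp hQ h2 hM hMS hkM hns' hQgu
    (fun h => hu0 ((app g).map_eq_zero_iff.1 h)) one_ne_zero hrad (fun y y' hy hy' => by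
      obtain ⟨z, rfl⟩ := (app g).surjective y
      obtain ⟨z', rfl⟩ := (app g).surjective y'
      rw [hgu, mul_eq_zero] at hy hy'
      have hy := hy.resolve_left hc
      have hy' := hy'.resolve_left hc
      rw [hkg, hkg, hy, hy', one_mul]
      simp only [zero_smul, add_zero, Orth.pl_sub_left, Orth.pl_sub_right, Orth.pl_smul_left,
        Orth.pl_smul_right, Orth.pl_comm Q (app g z) (app g u), hgu, huu, hy, hy']
      ring)
  exact ⟨app g u, v, hQgu, fun h => hu0 ((app g).map_eq_zero_iff.1 h), h1, h3, h4⟩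

include hQ h2 hn hM hMS in
/-- An element mapping a singular vector to a singular vector. -/
lemma from_singular {g : GL ι F} (hg : g ∈ M) (hns : ¬ IsSim Q g) {u : ι → F} (hu : Q u = 0) (hu0 : u ≠ 0)
    (hgu : Q (app g u) = 0) :
    ∃ u' v, Q u' = 0 ∧ u' ≠ 0 ∧ v ≠ 0 ∧ polar ⇑Q u' v = 0 ∧ tv v (Q.polarBilin u') ∈ M := by
  set B : (ι → F) → ((ι → F) →ₗ[F] F) :=
    fun a => Q.polarBilin (app g a) ∘ₗ (app g).toLinearMap with hB
  have hBap : ∀ a b, B a b = polar ⇑Q (app g a) (app g b) := fun a b => rfl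
  have hBinj : ∀ a, B a = 0 → a = 0 := fun a ha => by
    by_contra hne
    obtain ⟨y, hy⟩ := Orth.exists_polar_ne hQ (show app g a ≠ 0 from fun h => hne ((app g).map_eq_zero_iff.1 h))
    exact hy (by simpa [hBap] using LinearMap.congr_fun ha (app g⁻¹ y))
  by_cases hmove : ∀ c : F, B u ≠ c • Q.polarBilin u
  swap
  · push Not at hmove
    obtain ⟨c, hc⟩ := hmove
    refine from_rad hQ h2 hM hMS hg hns hu hu0 (c := c) (fun h0 => ?_) fun z => LinearMap.congr_fun hc z
    rw [h0, zero_smul] at hc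
    exact hu0 (hBinj u hc)
  have hBadd : ∀ a b, B (a + b) = B a + B b := fun a b => LinearMap.ext fun y => by
    rw [LinearMap.add_apply, hBap, hBap, hBap, map_add, Orth.pl_add_left]
  have hBsmul : ∀ (t : F) a, B (t • a) = t • B a := fun t a => LinearMap.ext fun y => by
    rw [LinearMap.smul_apply, hBap, hBap, map_smul, Orth.pl_smul_left, smul_eq_mul]
  have huu : polar ⇑Q u u = 0 := by rw [Orth.pl_self, hu, mul_zero]
  have hBuu : B u u = 0 := by rw [hBap, Orth.pl_self, hgu, mul_zero]
  let L : (ι → F) →ₗ[F] (Fin 2 → F) := LinearMap.pi ![Q.polarBilin u, B u]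
  obtain ⟨w, hw, hwu⟩ : ∃ w ∈ LinearMap.ker L, w ∉ F ∙ u := by
    by_contra! hle
    have h1 := Submodule.finrank_mono (s := LinearMap.ker L) (t := F ∙ u) hle
    have h4 := LinearMap.finrank_range_add_finrank_ker L
    have h5 := Submodule.finrank_le (LinearMap.range L)
    rw [finrank_span_singleton hu0] at h1
    rw [Orth.finrank_space] at h4
    rw [Module.finrank_fin_fun] at h5
    omega
  have hw' : L w = 0 := hw
  have huw : polar ⇑Q u w = 0 := congrFun hw' 0
  have hBuw : B u w = 0 := congrFun hw' 1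
  obtain ⟨y, hy, hy1, hy2⟩ := OrthSL.exists_both (K := LinearMap.ker (B u))
    (φ := Q.polarBilin u) (ψ := B w)
    (by
      by_contra! h
      obtain ⟨a, b, hab⟩ := OrthSL.exists_comb (A := B u) (B := B u) (φ := Q.polarBilin u)
        fun y hy _ => h y hy
      rw [← add_smul] at hab
      have hne : a + b ≠ 0 := fun h0 => by
        obtain ⟨y, hy⟩ := Orth.exists_polar_ne hQ hu0
        exact hy (by simpa [h0] using LinearMap.congr_fun hab y)
      exact hmove (a + b)⁻¹ (by rw [hab, smul_smul, inv_mul_cancel₀ hne, one_smul]))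
    (by
      by_contra! h
      obtain ⟨a, b, hab⟩ := OrthSL.exists_comb (A := B u) (B := B u) (φ := B w)
        fun y hy _ => h y hy
      rw [← add_smul] at hab
      refine hwu (Submodule.mem_span_singleton.2 ⟨a + b, ?_⟩)
      have h0 : B (w + (-(a + b)) • u) = 0 := by
        rw [hBadd, hBsmul, hab]; module
      have := hBinj _ h0
      rw [neg_smul, add_neg_eq_zero] at this
      exact this.symm)
  have hBuy : polar ⇑Q (app g u) (app g y) = 0 := hy
  have hguu : polar ⇑Q (app g u) (app g u) = 0 := hBuu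
  have hguw : polar ⇑Q (app g u) (app g w) = 0 := hBuw
  have hE : ∀ s : F, ∀ z, app (g * (eich Q u (s • w) : GL ι F) * g⁻¹) (app g z) =
      app g z + (s * polar ⇑Q u z) • app g w -
        (s * polar ⇑Q w z + s * s * Q w * polar ⇑Q u z) • app g u := fun s z => by
    have hs : polar ⇑Q u (s • w) = 0 := by rw [Orth.pl_smul_right, huw, mul_zero]
    rw [map_mul, map_mul, LinearEquiv.mul_apply, LinearEquiv.mul_apply, app_inv_app, app_coe,
      Orth.eich_ap hu hs, Orth.Q_smul, Orth.pl_smul_left]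
    simp only [map_sub, map_add, map_smul]
    module
  have hfix : ∀ s, app (g * (eich Q u (s • w) : GL ι F) * g⁻¹) (app g u) = app g u := fun s => by
    rw [hE, huu, Orth.pl_comm Q w u, huw]; simp
  have hrad : ∀ s z, polar ⇑Q (app (g * (eich Q u (s • w) : GL ι F) * g⁻¹) (app g u))
      (app (g * (eich Q u (s • w) : GL ι F) * g⁻¹) z) = 1 * polar ⇑Q (app g u) z := fun s z => by
    obtain ⟨z, rfl⟩ := (app g).surjective z
    rw [hfix, hE, Orth.pl_sub_right, Orth.pl_add_right, Orth.pl_smul_right, Orth.pl_smul_right, hguw, hguu]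
    ring
  have hkM : ∀ s : F, g * (eich Q u (s • w) : GL ι F) * g⁻¹ ∈ M := fun s =>
    mul_mem (mul_mem hg (eich_mem hM hu (by rw [Orth.pl_smul_right, huw, mul_zero]))) (inv_mem hg)
  by_cases hall : ∀ s : F, IsSim Q (g * (eich Q u (s • w) : GL ι F) * g⁻¹)
  · exfalso
    have hiso : ∀ s : F, polar ⇑Q (app g y + (s * polar ⇑Q u y) • app g w -
        (s * polar ⇑Q w y + s * s * Q w * polar ⇑Q u y) • app g u)
        (app g y + (s * polar ⇑Q u y) • app g w -
        (s * polar ⇑Q w y + s * s * Q w * polar ⇑Q u y) • app g u) = polar ⇑Q (app g y) (app g y) := fun s => by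
      obtain ⟨d, hd⟩ := hall s
      obtain ⟨z, hz⟩ := Orth.exists_polar_ne hQ (show app g u ≠ 0 from fun h => hu0 ((app g).map_eq_zero_iff.1 h))
      have h1 := sim_polar hd (app g u) z
      rw [hrad] at h1
      have hd1 : (d : F) = 1 := (mul_right_cancel₀ hz h1).symm
      rw [← hE, sim_polar hd, hd1, one_mul]
    have h1 := hiso 1
    have h3 := hiso (-1)
    simp only [Orth.pl_sub_left, Orth.pl_add_left, Orth.pl_smul_left, Orth.pl_sub_right,
      Orth.pl_add_right, Orth.pl_smul_right, Orth.pl_comm Q (app g y) (app g w),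
      Orth.pl_comm Q (app g y) (app g u), Orth.pl_comm Q (app g w) (app g u), hBuy, hguu, hguw] at h1 h3
    have h4 : (2 * 2 : F) ≠ 0 := mul_ne_zero h2 h2
    have hyw : polar ⇑Q u y * polar ⇑Q (app g w) (app g y) = 0 :=
      mul_left_cancel₀ h4 (by linear_combination h1 - h3)
    exact mul_ne_zero hy1 hy2 hyw
  · push Not at hall
    obtain ⟨s, hs⟩ := hall
    exact from_rad hQ h2 hM hMS (hkM s) hs hgu (fun h => hu0 ((app g).map_eq_zero_iff.1 h)) one_ne_zero
      (hrad s)

include hM in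
/-- Counting disjoint translates of a set of singular points. -/
lemma count_le {α β : Type*} [Fintype α] [Fintype β] (G : α → GL ι F) (pt : β → ι → F)
    (h0 : ∀ b, pt b ≠ 0) (hS : ∀ b, Q (pt b) = 0)
    (hpt : ∀ b b', ∀ c : F, pt b = c • pt b' → b = b')
    (hdis : ∀ a a', a ≠ a' → ∀ x, x ≠ 0 → Q x = 0 → Q (app ((G a')⁻¹ * G a) x) ≠ 0) :
    Fintype.card α * Fintype.card β * (Fintype.card F - 1) + 1 ≤ Fintype.card F ^ Fintype.card ι := by
  classical
  let Ψ : Option (α × β × Fˣ) → (ι → F) := fun o =>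
    o.elim 0 fun t => (t.2.2 : F) • app (G t.1) (pt t.2.1)
  have hne : ∀ t : α × β × Fˣ, (t.2.2 : F) • app (G t.1) (pt t.2.1) ≠ 0 := fun t =>
    smul_ne_zero t.2.2.ne_zero fun h => h0 _ ((app (G t.1)).map_eq_zero_iff.1 h)
  have hinj : Function.Injective Ψ := by
    rintro (_ | ⟨a, b, c⟩) (_ | ⟨a', b', c'⟩) h
    · rfl
    · exact absurd h.symm (hne _)
    · exact absurd h (hne _)
    · have h1 : (c : F) • app ((G a')⁻¹ * G a) (pt b) = (c' : F) • pt b' := by
        have := congrArg (app (G a')⁻¹) h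
        simp only [Ψ, Option.elim, map_smul, app_inv_app] at this
        rw [map_mul, LinearEquiv.mul_apply]
        exact this
      have haa : a = a' := by
        by_contra hne'
        refine hdis a a' hne' (pt b) (h0 b) (hS b) ?_
        have h3 := congrArg Q h1
        rw [Orth.Q_smul, Orth.Q_smul, hS b', mul_zero] at h3
        exact (mul_eq_zero.1 h3).resolve_left (mul_ne_zero c.ne_zero c.ne_zero)
      subst haa
      rw [inv_mul_cancel, map_one] at h1
      change (c : F) • pt b = (c' : F) • pt b' at h1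
      have hbb : b = b' := hpt b b' ((c : F)⁻¹ * c') (by
        rw [mul_smul, ← h1, inv_smul_smul₀ c.ne_zero])
      subst hbb
      have hcc : c = c' := Units.ext (smul_left_injective F (h0 b) h1)
      rw [hcc]
  have := Fintype.card_le_of_injective Ψ hinj
  simpa [Fintype.card_option, Fintype.card_prod, Fintype.card_units, mul_assoc] using this

include hQ in
/-- An orthogonal basis of the perpendicular space of a hyperbolic pair. -/
lemma exists_perp_basis {u f : ι → F} (hp : HPair Q u f) (h2 : (2 : F) ≠ 0) (hn : Fintype.card ι = 4) :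
    ∃ a b, a ∈ perp Q u f ∧ b ∈ perp Q u f ∧ Q a ≠ 0 ∧ Q b ≠ 0 ∧ polar ⇑Q a b = 0 ∧
      ∀ z, polar ⇑Q u z = 0 → polar ⇑Q f z = 0 → polar ⇑Q a z = 0 → polar ⇑Q b z = 0 → z = 0 := by
  obtain ⟨a, ha, hQa⟩ := hp.exists_nonsing_perp hQ (by omega)
  obtain ⟨hua, hfa⟩ := Orth.mem_perp.1 ha
  have haa : polar ⇑Q a a ≠ 0 := by rw [Orth.pl_self]; exact mul_ne_zero h2 hQa
  let L : (ι → F) →ₗ[F] (Fin 3 → F) := LinearMap.pi ![Q.polarBilin u, Q.polarBilin f, Q.polarBilin a]
  obtain ⟨b, hb, hb0⟩ := Submodule.exists_mem_ne_zero_of_ne_bot (p := LinearMap.ker L) fun h => by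
    have := LinearMap.finrank_le_finrank_of_injective (LinearMap.ker_eq_bot.1 h)
    rw [Orth.finrank_space, Module.finrank_fin_fun] at this
    omega
  have hb' : L b = 0 := hb
  have hub : polar ⇑Q u b = 0 := congrFun hb' 0
  have hfb : polar ⇑Q f b = 0 := congrFun hb' 1
  have hab : polar ⇑Q a b = 0 := congrFun hb' 2
  have hfu : polar ⇑Q f u = 1 := by rw [Orth.pl_comm]; exact hp.pf
  have hli : LinearIndependent F ![u, f, a, b] := by
    rw [Fintype.linearIndependent_iff]
    intro g hg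
    simp [Fin.sum_univ_four] at hg
    have ev : ∀ v, g 0 * polar ⇑Q v u + g 1 * polar ⇑Q v f + g 2 * polar ⇑Q v a + g 3 * polar ⇑Q v b = 0 :=
      fun v => by
        have := congrArg (polar ⇑Q v) hg
        simpa [Orth.pl_add_right, Orth.pl_smul_right, Orth.pl_zero_right] using this
    have e0 := ev u
    have e1 := ev f
    have e2 := ev a
    rw [Orth.pl_self, hp.qe, hp.pf, hua, hub] at e0
    rw [Orth.pl_self, hp.qf, hfu, hfa, hfb] at e1
    rw [Orth.pl_comm Q a u, hua, Orth.pl_comm Q a f, hfa, hab] at e2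
    simp at e0 e1
    simp [hQa, h2] at e2
    rw [e0, e1, e2] at hg
    simp [hb0] at hg
    intro i; fin_cases i <;> assumption
  have hspan := hli.span_eq_top_of_card_eq_finrank (by simp [hn])
  have hext : ∀ z, polar ⇑Q u z = 0 → polar ⇑Q f z = 0 → polar ⇑Q a z = 0 → polar ⇑Q b z = 0 → z = 0 := by
    intro z h1 h3 h4 h5
    by_contra hz
    obtain ⟨x, hx⟩ := Orth.exists_polar_ne hQ hz
    apply hx
    have hsub : Submodule.span F (Set.range ![u, f, a, b]) ≤ LinearMap.ker (Q.polarBilin z) := by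
      rw [Submodule.span_le]
      rintro _ ⟨i, rfl⟩
      fin_cases i <;> simp [Orth.pl_comm Q z, h1, h3, h4, h5]
    rw [hspan] at hsub
    simpa using hsub (Submodule.mem_top (x := x))
  refine ⟨a, b, ha, Orth.mem_perp.2 ⟨hub, hfb⟩, hQa, fun h => hb0 ?_, hab, hext⟩
  exact hext b hub hfb hab (by rw [Orth.pl_self, h, mul_zero])

include hQ h2 hn hM hMS in
/-- An element outside the similarity group gives a transvection. -/
theorem exists_transvection {g : GL ι F} (hg : g ∈ M) (hns : ¬ IsSim Q g) :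
    ∃ u' v, Q u' = 0 ∧ u' ≠ 0 ∧ v ≠ 0 ∧ polar ⇑Q u' v = 0 ∧ tv v (Q.polarBilin u') ∈ M := by
  classical
  by_cases hex : ∃ k ∈ M, ¬ IsSim Q k ∧ ∃ x, x ≠ 0 ∧ Q x = 0 ∧ Q (app k x) = 0
  · obtain ⟨k, hk, hkns, x, hx0, hx, hkx⟩ := hex
    exact from_singular hQ h2 hn hM hMS hk hkns hx hx0 hkx
  exfalso
  push Not at hex
  obtain ⟨u, f, hp⟩ := Orth.exists_hpair hQ (by omega)
  obtain ⟨a, b, ha, hb, hQa, hQb, hab, -⟩ := exists_perp_basis hQ hp h2 hn
  obtain ⟨hua, hfa⟩ := Orth.mem_perp.1 ha
  obtain ⟨hub, hfb⟩ := Orth.mem_perp.1 hb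
  have hfu : polar ⇑Q f u = 1 := by rw [Orth.pl_comm]; exact hp.pf
  have hu := hp.qe
  have hgy : ∀ y, y ≠ 0 → Q y = 0 → Q (app g y) ≠ 0 := hex g hg hns
  have hd : ∀ d, polar ⇑Q u d = 0 → polar ⇑Q f d = 0 → Q d ≠ 0 → ∀ x, x ≠ 0 → Q x = 0 →
      Q (app (g⁻¹ * (eich Q u d : GL ι F) * g) x) ≠ 0 := by
    intro d hud hfd hQd
    refine hex _ (mul_mem (mul_mem (inv_mem hg) (eich_mem hM hu hud)) hg) ?_
    rintro ⟨c, hc⟩
    set h := g⁻¹ * (eich Q u d : GL ι F) * g with hh
    have happ : ∀ z, app h (app g⁻¹ z) = app g⁻¹ (ap (eich Q u d) z) := fun z => by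
      rw [hh, map_mul, map_mul, LinearEquiv.mul_apply, LinearEquiv.mul_apply, app_app_inv, app_coe]
    set y := app g⁻¹ u with hy
    have hhy : app h y = y := by
      rw [hy, happ, Orth.eich_ap hu hud, Orth.pl_self, hu, Orth.pl_comm Q d u, hud]; simp
    have hQy : Q y ≠ 0 := fun h0 => hgy y (fun e => hp.ne_zero ((app g⁻¹).map_eq_zero_iff.1 e)) h0
      (by rw [hy, app_app_inv, hu])
    have hc1 : (c : F) = 1 := by
      have h1 := hc y
      rw [hhy] at h1
      exact (mul_right_cancel₀ hQy (by rw [one_mul]; exact h1)).symm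
    set z := app g⁻¹ f with hz
    have hdf : polar ⇑Q d f = 0 := by rw [Orth.pl_comm]; exact hfd
    have e1 : app h z = z + app g⁻¹ d - Q d • y := by
      rw [hz, happ, Orth.eich_ap hu hud, hp.pf, hdf, hy]
      simp only [map_sub, map_add, map_smul, one_smul, zero_add, mul_one]
    have e2 : app h (app g⁻¹ d) = app g⁻¹ d - (2 * Q d) • y := by
      rw [happ, Orth.eich_ap hu hud, hud, Orth.pl_self, hy]
      simp only [map_sub, map_smul, zero_smul, add_zero, mul_zero]
    have p1 := sim_polar hc z y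
    have p2 := sim_polar hc (app g⁻¹ d) y
    rw [hc1, hhy, one_mul] at p1 p2
    rw [e1] at p1
    rw [e2] at p2
    simp only [Orth.pl_sub_left, Orth.pl_add_left, Orth.pl_smul_left] at p1 p2
    have h3 : (2 * Q d) * polar ⇑Q y y = 0 := by linear_combination -p2
    rw [Orth.pl_self] at h3
    exact mul_ne_zero (mul_ne_zero h2 hQd) (mul_ne_zero h2 hQy) h3
  -- the points
  let pa : F × F → (ι → F) := fun t => f + (t.1 • a + t.2 • b) - Q (t.1 • a + t.2 • b) • u
  have hperpl : ∀ t : F × F, polar ⇑Q u (t.1 • a + t.2 • b) = 0 ∧ polar ⇑Q f (t.1 • a + t.2 • b) = 0 := fun t => by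
    simp [Orth.pl_add_right, Orth.pl_smul_right, hua, hub, hfa, hfb]
  have hpaS : ∀ t, Q (pa t) = 0 := fun t => by
    obtain ⟨h1, h3⟩ := hperpl t
    simp only [pa, Orth.Q_sub, Orth.Q_add, Orth.Q_smul, hp.qf, hu, Orth.pl_smul_right, Orth.pl_add_left,
      hfu, h3, Orth.pl_comm Q (t.1 • a + t.2 • b) u, h1]
    simp only [Orth.Q_add, Orth.Q_smul, Orth.pl_smul_left, Orth.pl_smul_right, hab]
    ring
  have hupa : ∀ t, polar ⇑Q u (pa t) = 1 := fun t => by
    simp only [pa, Orth.pl_sub_right, Orth.pl_add_right, Orth.pl_smul_right, hp.pf, hua, hub,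
      Orth.pl_self, hu]
    ring
  have haa : polar ⇑Q a a ≠ 0 := by rw [Orth.pl_self]; exact mul_ne_zero h2 hQa
  have hbb : polar ⇑Q b b ≠ 0 := by rw [Orth.pl_self]; exact mul_ne_zero h2 hQb
  have hba : polar ⇑Q b a = 0 := by rw [Orth.pl_comm]; exact hab
  have hau : polar ⇑Q a u = 0 := by rw [Orth.pl_comm]; exact hua
  have hbu : polar ⇑Q b u = 0 := by rw [Orth.pl_comm]; exact hub
  have haf : polar ⇑Q a f = 0 := by rw [Orth.pl_comm]; exact hfa
  have hbf : polar ⇑Q b f = 0 := by rw [Orth.pl_comm]; exact hfb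
  have hpainj : ∀ t t', pa t = pa t' → t = t' := fun t t' h => by
    have h1 := congrArg (polar ⇑Q a) h
    have h3 := congrArg (polar ⇑Q b) h
    simp only [pa, Orth.pl_sub_right, Orth.pl_add_right, Orth.pl_smul_right, haf, hbf, hau, hbu, hab,
      hba, zero_add, mul_zero, sub_zero, add_zero] at h1 h3
    exact Prod.ext (mul_right_cancel₀ haa h1) (mul_right_cancel₀ hbb h3)
  let po : Option (F × F) → (ι → F) := fun o => o.elim u pa
  have hpo0 : ∀ o, po o ≠ 0 := by
    rintro (_ | t) h
    · exact hp.ne_zero h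
    · have := hupa t
      rw [show pa t = 0 from h, Orth.pl_zero_right] at this
      exact zero_ne_one this
  have hpoS : ∀ o, Q (po o) = 0 := by
    rintro (_ | t)
    exacts [hu, hpaS t]
  have hpo : ∀ o o', ∀ c : F, po o = c • po o' → o = o' := by
    rintro (_ | t) (_ | t') c h
    · rfl
    · exfalso
      have h1 := congrArg (polar ⇑Q u) h
      simp only [po, Option.elim, Orth.pl_smul_right, hupa, Orth.pl_self, hu, mul_one, mul_zero] at h1
      rw [← h1, zero_smul] at h
      exact hp.ne_zero h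
    · exfalso
      have h1 := congrArg (polar ⇑Q u) h
      simp only [po, Option.elim, Orth.pl_smul_right, hupa, Orth.pl_self, hu, mul_zero] at h1
      exact one_ne_zero h1
    · have h1 := congrArg (polar ⇑Q u) h
      simp only [po, Option.elim, Orth.pl_smul_right, hupa, mul_one] at h1
      rw [← h1, one_smul] at h
      rw [hpainj t t' h]
  have hcardV : Fintype.card F ^ Fintype.card ι = Fintype.card F ^ 4 := by rw [hn]
  obtain ⟨r, hr⟩ : ∃ r, Fintype.card F = r + 2 :=
    ⟨Fintype.card F - 2, by have := Fintype.one_lt_card (α := F); omega⟩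
  -- the translates
  have hdis : ∀ {T : Type _} (τ : T → (ι → F)),
      (∀ t, polar ⇑Q u (τ t) = 0 ∧ polar ⇑Q f (τ t) = 0) → (∀ t t', t ≠ t' → Q (τ t - τ t') ≠ 0) →
      ∀ o o' : Option T, o ≠ o' → ∀ x, x ≠ 0 → Q x = 0 →
        Q (app ((o'.elim 1 fun t => (eich Q u (τ t) : GL ι F) * g)⁻¹ *
          (o.elim 1 fun t => (eich Q u (τ t) : GL ι F) * g)) x) ≠ 0 := by
    intro T τ hτ hτd o o' hoo x hx0 hx
    have hns' : ∀ t, ¬ IsSim Q ((eich Q u (τ t) : GL ι F) * g) := fun t h => hns (by
      have := (isSim_coe (eich Q u (τ t))).inv.mul h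
      rwa [inv_mul_cancel_left] at this)
    rcases o with _ | t <;> rcases o' with _ | t'
    · exact absurd rfl hoo
    · simp only [Option.elim, mul_one]
      refine hex _ (inv_mem (mul_mem (eich_mem hM hu (hτ t').1) hg)) (fun h => hns' t' ?_) x hx0 hx
      simpa using h.inv
    · simp only [Option.elim, inv_one, one_mul]
      exact hex _ (mul_mem (eich_mem hM hu (hτ t).1) hg) (hns' t) x hx0 hx
    · have e : ((eich Q u (τ t') : GL ι F) * g)⁻¹ * ((eich Q u (τ t) : GL ι F) * g) =
          g⁻¹ * (eich Q u (τ t - τ t') : GL ι F) * g := by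
        have h1 : (eich Q u (τ t'))⁻¹ * eich Q u (τ t) = eich Q u (τ t - τ t') := by
          rw [Orth.eich_inv, Orth.eich_add hu (by rw [Orth.pl_neg_right, (hτ t').1, neg_zero]) (hτ t).1,
            neg_add_eq_sub]
        rw [← h1]
        simp only [Subgroup.coe_mul, Subgroup.coe_inv]
        group
      simp only [Option.elim, e]
      exact hd _ (by rw [Orth.pl_sub_right, (hτ t).1, (hτ t').1, sub_zero])
        (by rw [Orth.pl_sub_right, (hτ t).2, (hτ t').2, sub_zero])
        (hτd t t' fun e' => hoo (by rw [e'])) x hx0 hx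
  by_cases hplus : ∃ t : F × F, t ≠ 0 ∧ Q (t.1 • a + t.2 • b) = 0
  · obtain ⟨t0, ht0, hQ0⟩ := hplus
    obtain ⟨hw1, hw3⟩ := hperpl t0
    set w0 := t0.1 • a + t0.2 • b with hw0
    have hw00 : w0 ≠ 0 := fun h => by
      have h1 := congrArg (polar ⇑Q a) h
      have h3 := congrArg (polar ⇑Q b) h
      simp only [hw0, Orth.pl_add_right, Orth.pl_smul_right, hab, hba, mul_zero, add_zero, zero_add,
        Orth.pl_zero_right, mul_eq_zero] at h1 h3
      exact ht0 (Prod.ext (h1.resolve_right haa) (h3.resolve_right hbb))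
    have hcount := count_le hM (fun o : Option F => o.elim 1 fun t => (eich Q u (t • a) : GL ι F) * g)
      (fun o : Option (Option (F × F)) => o.elim w0 po) (by rintro (_ | o); exacts [hw00, hpo0 o])
      (by rintro (_ | o); exacts [hQ0, hpoS o])
      (by
        rintro (_ | o) (_ | o') c h
        · rfl
        · exfalso
          simp only [Option.elim] at h
          have h1 := congrArg (polar ⇑Q u) h
          rw [hw1, Orth.pl_smul_right] at h1
          rcases o' with _ | t'
          · have h3 := congrArg (polar ⇑Q f) h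
            rw [hw3, Orth.pl_smul_right, show polar ⇑Q f (po none) = 1 from hfu, mul_one] at h3
            exact hw00 (by rw [h, ← h3, zero_smul])
          · rw [show polar ⇑Q u (po (some t')) = 1 from hupa t', mul_one] at h1
            exact hw00 (by rw [h, ← h1, zero_smul])
        · exfalso
          simp only [Option.elim] at h
          have h1 := congrArg (polar ⇑Q u) h
          rw [Orth.pl_smul_right, hw1, mul_zero] at h1
          rcases o with _ | t'
          · have h3 := congrArg (polar ⇑Q f) h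
            rw [Orth.pl_smul_right, hw3, mul_zero, show polar ⇑Q f (po none) = 1 from hfu] at h3
            exact one_ne_zero h3
          · rw [show polar ⇑Q u (po (some t')) = 1 from hupa t'] at h1
            exact one_ne_zero h1
        · rw [hpo o o' c h])
      (hdis (fun t => t • a) (fun t => by simp [Orth.pl_smul_right, hua, hfa]) (fun t t' h => by
        rw [← sub_smul, Orth.Q_smul]
        exact mul_ne_zero (mul_ne_zero (sub_ne_zero.2 h) (sub_ne_zero.2 h)) hQa))
    rw [hcardV] at hcount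
    simp only [Fintype.card_option, Fintype.card_prod, hr, show r + 2 - 1 = r + 1 from rfl] at hcount
    ring_nf at hcount
    omega
  · push Not at hplus
    have hcount := count_le hM
      (fun o : Option (F × F) => o.elim 1 fun t => (eich Q u (t.1 • a + t.2 • b) : GL ι F) * g)
      po hpo0 hpoS hpo
      (hdis (fun t : F × F => t.1 • a + t.2 • b) hperpl (fun t t' h => by
        rw [show t.1 • a + t.2 • b - (t'.1 • a + t'.2 • b) = (t - t').1 • a + (t - t').2 • b by
          simp only [Prod.fst_sub, Prod.snd_sub]; module]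
        exact hplus _ (sub_ne_zero.2 h)))
    rw [hcardV] at hcount
    simp only [Fintype.card_option, Fintype.card_prod, hr, show r + 2 - 1 = r + 1 from rfl] at hcount
    ring_nf at hcount
    nlinarith [pow_nonneg (Nat.zero_le r) 2, pow_nonneg (Nat.zero_le r) 3, pow_nonneg (Nat.zero_le r) 4]

/-! ### From a transvection to everything -/

include hQ h2 hn hM in
/-- A transvection with axis a tangent hyperplane gives `SL`. -/
theorem sl_le_of_transvection {u v : ι → F} (hu : Q u = 0) (hu0 : u ≠ 0) (hv0 : v ≠ 0)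
    (huv : polar ⇑Q u v = 0) (hT : tv v (Q.polarBilin u) ∈ M) : Cfsg.Geo.specialLinear ι F ≤ M := by
  classical
  obtain ⟨f, hp⟩ := Orth.exists_hpair_left hQ hu hu0
  obtain ⟨a, b, ha, hb, hQa, hQb, hab, hext⟩ := exists_perp_basis hQ hp h2 hn
  obtain ⟨hua, hfa⟩ := Orth.mem_perp.1 ha
  obtain ⟨hub, hfb⟩ := Orth.mem_perp.1 hb
  have huu : polar ⇑Q u u = 0 := by rw [Orth.pl_self, hu, mul_zero]
  have hff : polar ⇑Q f f = 0 := by rw [Orth.pl_self, hp.qf, mul_zero]
  have hfu : polar ⇑Q f u = 1 := by rw [Orth.pl_comm]; exact hp.pf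
  have hau : polar ⇑Q a u = 0 := by rw [Orth.pl_comm]; exact hua
  have hbu : polar ⇑Q b u = 0 := by rw [Orth.pl_comm]; exact hub
  have haf : polar ⇑Q a f = 0 := by rw [Orth.pl_comm]; exact hfa
  have hbf : polar ⇑Q b f = 0 := by rw [Orth.pl_comm]; exact hfb
  have comp : ∀ (h : IsoGrp Q) (x : ι → F),
      Q.polarBilin x ∘ₗ (app (h : GL ι F)⁻¹).toLinearMap = Q.polarBilin (ap h x) := fun h x =>
    LinearMap.ext fun y => by
      obtain ⟨z, rfl⟩ := (app (h : GL ι F)).surjective y
      rw [LinearMap.comp_apply, LinearEquiv.coe_coe, app_inv_app]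
      simp only [app_coe, QuadraticMap.polarBilin_apply_apply, Orth.polar_ap]
  have hU : Q.polarBilin u ∈ axes M u := by
    refine ⟨by simpa using huu, fun d => ?_⟩
    by_cases hvu : v ∈ F ∙ u
    · obtain ⟨r, rfl⟩ := Submodule.mem_span_singleton.1 hvu
      have hr : r ≠ 0 := fun h => hv0 (by rw [h, zero_smul])
      rw [tv_smul (by simpa using huu)] at hT
      have sq : ∀ s : F, tv u ((r * (s * s)) • Q.polarBilin u) ∈ M := by
        intro s
        rcases eq_or_ne s 0 with rfl | hs
        · simp [tv_zero]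
        have hQ1 : Q (u - f) ≠ 0 := by
          rw [Orth.Q_sub, hu, hp.qf, hp.pf]; simp
        have hQs : Q (u - s • f) ≠ 0 := by
          rw [Orth.Q_sub, Orth.Q_smul, hu, hp.qf, Orth.pl_smul_right, hp.pf]; simpa using hs
        have h1 := refl_pair_mem hM hQ1 hQs
        have e : ap (refl Q (u - f) * refl Q (u - s • f)) u = s • u := by
          have q1 : Q (u - f) = -1 := by rw [Orth.Q_sub, hu, hp.qf, hp.pf]; ring
          have q2 : Q (u - s • f) = -s := by
            rw [Orth.Q_sub, Orth.Q_smul, hu, hp.qf, Orth.pl_smul_right, hp.pf]; ring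
          have p1 : polar ⇑Q (u - s • f) u = -s := by
            rw [Orth.pl_sub_left, Orth.pl_smul_left, huu, hfu]; ring
          have p2 : polar ⇑Q (u - f) (s • f) = s := by
            rw [Orth.pl_sub_left, Orth.pl_smul_right, Orth.pl_smul_right, hp.pf, hff]; ring
          rw [Orth.ap_mul, Orth.refl_ap Q (u - s • f), q2, p1, inv_mul_cancel₀ (neg_ne_zero.2 hs),
            one_smul, sub_sub_cancel, Orth.refl_ap, q1, p2, inv_neg, inv_one]
          module
        have h3 := mul_mem (mul_mem h1 hT) (inv_mem h1)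
        rw [tv_conj (by simp [huu]), LinearMap.smul_comp, comp, app_coe, e, map_smul, smul_smul,
          tv_smul (by simp [huu]), smul_smul] at h3
        convert h3 using 3
        ring
      have h4 : ∀ x y : F, tv u ((r * (x * x - y * y)) • Q.polarBilin u) ∈ M := fun x y => by
        have h := mul_mem (sq x) (inv_mem (sq y))
        rw [tv_inv (by simp [huu]), ← tv_add (by simp [huu]) (by simp [huu])] at h
        convert h using 2
        module
      convert h4 ((d / r + 1) / 2) ((d / r - 1) / 2) using 3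
      field_simp
      ring
    · obtain ⟨y, hy, hyv⟩ : ∃ y ∈ perp Q u f, polar ⇑Q y v ≠ 0 := by
        by_contra! hall
        refine hvu (Submodule.mem_span_singleton.2 ⟨polar ⇑Q f v, ?_⟩)
        have hw : v - polar ⇑Q f v • u = 0 := hext _
          (by rw [Orth.pl_sub_right, Orth.pl_smul_right, huu, huv]; ring)
          (by rw [Orth.pl_sub_right, Orth.pl_smul_right, hfu]; ring)
          (by rw [Orth.pl_sub_right, Orth.pl_smul_right, hau, hall a ha]; ring)
          (by rw [Orth.pl_sub_right, Orth.pl_smul_right, hbu, hall b hb]; ring)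
        exact (sub_eq_zero.1 hw).symm
      set w := (-d / polar ⇑Q y v) • y with hw
      have huy := (Orth.mem_perp.1 hy).1
      have huw : polar ⇑Q u w = 0 := by rw [hw, Orth.pl_smul_right, huy, mul_zero]
      have h1 := eich_mem hM hu huw
      have h3 := mul_mem (mul_mem h1 hT) (inv_mem h1)
      have e1 : ap (eich Q u w) u = u := by
        rw [Orth.eich_ap hu huw, huu, Orth.pl_comm Q w u, huw]; simp
      have e2 : ap (eich Q u w) v = v + d • u := by
        rw [Orth.eich_ap hu huw, huv, hw, Orth.pl_smul_left, zero_smul, add_zero, mul_zero, add_zero,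
          div_mul_cancel₀ _ hyv, neg_smul, sub_neg_eq_add]
      rw [tv_conj (by simpa using huv), comp, app_coe, e1, e2] at h3
      have heq : tv (v + d • u) (Q.polarBilin u) = tv v (Q.polarBilin u) * tv u (d • Q.polarBilin u) := by
        refine gl_ext fun x => ?_
        rw [tv_apply (by simp [Orth.pl_add_right, Orth.pl_smul_right, huv, huu]), map_mul,
          LinearEquiv.mul_apply, tv_apply (by simpa using huv), tv_apply (by simp [huu])]
        simp only [LinearMap.smul_apply, smul_eq_mul, map_add, map_smul,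
          QuadraticMap.polarBilin_apply_apply, Orth.pl_add_right, Orth.pl_smul_right, huu]
        module
      rw [heq] at h3
      have h4 := mul_mem (inv_mem hT) h3
      rwa [inv_mul_cancel_left] at h4
  have hQuf : Q (u - f) ≠ 0 := by rw [Orth.Q_sub, hu, hp.qf, hp.pf]; simp
  have hswap := refl_pair_mem hM hQuf hQa
  have hswapu : ap (refl Q (u - f) * refl Q a) u = f := by
    rw [Orth.ap_mul, Orth.refl_ap_of_orth Q hau, Orth.refl_ap, Orth.Q_sub, hu, hp.qf, hp.pf,
      Orth.pl_sub_left, huu, hfu]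
    simp
  have hF : Q.polarBilin f ∈ axes M f := by
    have h := axes_conj hswap hU
    rwa [comp, app_coe, hswapu] at h
  -- one full non-singular centre
  obtain ⟨c, hc0, hcS⟩ : ∃ c : F, c ≠ 0 ∧ c ≠ Q a + Q b := by
    rcases eq_or_ne (Q a + Q b) 1 with h | h
    · exact ⟨-1, by simp, fun e => h2 (by linear_combination -e - h)⟩
    · exact ⟨1, one_ne_zero, h.symm⟩
  set p := f + c • u with hp'
  set q := f + (-c) • u with hq'
  have hTc : tv u (c • Q.polarBilin u) ∈ M := hU.2 c
  have hTf : app (tv u (c • Q.polarBilin u)) f = p := by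
    rw [tv_apply (by simp [huu]), LinearMap.smul_apply, QuadraticMap.polarBilin_apply_apply, hp.pf,
      smul_eq_mul, mul_one]
  have hpq : polar ⇑Q p q = 0 := by
    simp only [hp', hq', Orth.pl_add_left, Orth.pl_add_right, Orth.pl_smul_left, Orth.pl_smul_right,
      hff, huu, hfu, hp.pf]
    ring
  have hP : Q.polarBilin q ∈ axes M p := by
    have h := axes_conj hTc hF
    rw [hTf] at h
    convert h using 1
    refine LinearMap.ext fun x => ?_
    rw [LinearMap.comp_apply, LinearEquiv.coe_coe, tv_inv (by simp [huu]), tv_apply (by simp [huu])]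
    simp only [hq', LinearMap.neg_apply, LinearMap.smul_apply, smul_eq_mul,
      QuadraticMap.polarBilin_apply_apply, Orth.pl_add_left, Orth.pl_smul_left, Orth.pl_add_right,
      Orth.pl_smul_right, hfu]
    ring
  have hpa : polar ⇑Q a p = 0 := by simp [hp', Orth.pl_add_right, Orth.pl_smul_right, haf, hau]
  have hpb : polar ⇑Q b p = 0 := by simp [hp', Orth.pl_add_right, Orth.pl_smul_right, hbf, hbu]
  have hqa : polar ⇑Q a q = 0 := by simp [hq', Orth.pl_add_right, Orth.pl_smul_right, haf, hau]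
  have hqb : polar ⇑Q b q = 0 := by simp [hq', Orth.pl_add_right, Orth.pl_smul_right, hbf, hbu]
  let Z : Submodule F (ι → F) := (axes M p).comap Q.polarBilin
  have hqZ : q ∈ Z := hP
  have gain : ∀ x, polar ⇑Q x p = 0 → polar ⇑Q x q = 0 → Q x = Q a + Q b → x ∈ Z := by
    intro x hxp hxq hQx
    set m := q + x with hm
    have hmm : Q m = Q x - c := by
      rw [hm, Orth.Q_add, hq', Orth.Q_add, Orth.Q_smul, hp.qf, hu, Orth.pl_smul_right, hfu,
        Orth.pl_comm Q (f + (-c) • u) x, ← hq', hxq]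
      ring
    have hQm : Q m ≠ 0 := by rw [hmm, hQx]; exact sub_ne_zero.2 (Ne.symm hcS)
    have h1 := axes_conj (refl_pair_mem hM hQm hQa) hP
    have e1 : ap (refl Q m * refl Q a) p = p := by
      rw [Orth.ap_mul, Orth.refl_ap_of_orth Q hpa, Orth.refl_ap_of_orth Q]
      rw [hm, Orth.pl_add_left, Orth.pl_comm Q q p, hpq, hxp, add_zero]
    have hmq : polar ⇑Q m q = -(2 * c) := by
      rw [hm, Orth.pl_add_left, hxq, Orth.pl_self, hq', Orth.Q_add, Orth.Q_smul, hp.qf, hu,
        Orth.pl_smul_right, hfu]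
      ring
    have e2 : ap (refl Q m * refl Q a) q = q - ((Q m)⁻¹ * -(2 * c)) • m := by
      rw [Orth.ap_mul, Orth.refl_ap_of_orth Q hqa, Orth.refl_ap, hmq]
    rw [comp, app_coe, e1, e2] at h1
    have h3 : q - ((Q m)⁻¹ * -(2 * c)) • m ∈ Z := h1
    have hmZ : m ∈ Z := by
      have h4 := Z.sub_mem hqZ h3
      rw [sub_sub_cancel] at h4
      exact (Z.smul_mem_iff (mul_ne_zero (inv_ne_zero hQm) (neg_ne_zero.2 (mul_ne_zero h2 hc0)))).1 h4
    simpa [hm] using Z.sub_mem hmZ hqZ
  have hs1 : a + b ∈ Z := gain _ (by rw [Orth.pl_add_left, hpa, hpb, add_zero])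
    (by rw [Orth.pl_add_left, hqa, hqb, add_zero]) (by rw [Orth.Q_add, hab, add_zero])
  have hs2 : a + (-1 : F) • b ∈ Z := gain _
    (by rw [Orth.pl_add_left, Orth.pl_smul_left, hpa, hpb, mul_zero, add_zero])
    (by rw [Orth.pl_add_left, Orth.pl_smul_left, hqa, hqb, mul_zero, add_zero])
    (by rw [Orth.Q_add, Orth.Q_smul, Orth.pl_smul_right, hab]; ring)
  have haZ : a ∈ Z := by
    have h := Z.smul_mem (2 : F)⁻¹ (Z.add_mem hs1 hs2)
    rwa [show a + b + (a + (-1 : F) • b) = (2 : F) • a by module, smul_smul, inv_mul_cancel₀ h2,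
      one_smul] at h
  have hbZ : b ∈ Z := by simpa using Z.sub_mem hs1 haZ
  have haa : polar ⇑Q a a ≠ 0 := by rw [Orth.pl_self]; exact mul_ne_zero h2 hQa
  have hbb : polar ⇑Q b b ≠ 0 := by rw [Orth.pl_self]; exact mul_ne_zero h2 hQb
  have hba : polar ⇑Q b a = 0 := by rw [Orth.pl_comm]; exact hab
  have decomp4 : ∀ z, z = polar ⇑Q f z • u + polar ⇑Q u z • f +
      (polar ⇑Q a z / polar ⇑Q a a) • a + (polar ⇑Q b z / polar ⇑Q b b) • b := fun z => by
    refine eq_of_sub_eq_zero (hext _ ?_ ?_ ?_ ?_) <;>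
      simp only [Orth.pl_sub_right, Orth.pl_add_right, Orth.pl_smul_right, huu, hp.pf, hua, hub, hfu, hff,
        hfa, hfb, hau, haf, hab, hbu, hbf, hba] <;> field_simp <;> ring
  have hfull : IsFull M p := by
    intro φ hφ
    obtain ⟨z, rfl⟩ : ∃ z, Q.polarBilin z = φ := ⟨_, LinearEquiv.apply_symm_apply
      (LinearMap.BilinForm.toDual Q.polarBilin hQ) φ⟩
    show z ∈ Z
    have hzp : polar ⇑Q z p = 0 := hφ
    rw [hp', Orth.pl_add_right, Orth.pl_smul_right, Orth.pl_comm Q z f, Orth.pl_comm Q z u] at hzp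
    have e : z = polar ⇑Q u z • q + (polar ⇑Q a z / polar ⇑Q a a) • a +
        (polar ⇑Q b z / polar ⇑Q b b) • b := by
      conv_lhs => rw [decomp4 z]
      rw [hq', show polar ⇑Q f z = -(c * polar ⇑Q u z) by linear_combination hzp]
      module
    rw [e]
    exact Z.add_mem (Z.add_mem (Z.smul_mem _ hqZ) (Z.smul_mem _ haZ)) (Z.smul_mem _ hbZ)
  let Φ : Submodule F (ι → F) :=
    { carrier := {x | x = 0 ∨ IsFull M x}
      zero_mem' := Or.inl rfl
      add_mem' := fun {p q} hp hq => by
        rcases eq_or_ne p 0 with rfl | hp0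
        · rwa [zero_add]
        rcases eq_or_ne q 0 with rfl | hq0
        · rwa [add_zero]
        have hp' := hp.resolve_left hp0
        have hq' := hq.resolve_left hq0
        by_cases hsp : p ∈ Submodule.span F {q}
        · obtain ⟨c, rfl⟩ := Submodule.mem_span_singleton.1 hsp
          rw [show c • q + q = (c + 1) • q by rw [add_smul, one_smul]]
          by_cases hc : c + 1 = 0
          · exact Or.inl (by rw [hc, zero_smul])
          · exact Or.inr (hq'.smul hc)
        · obtain ⟨θ, hθ, hθp⟩ := exists_dual_eq_one hsp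
          have hθq : θ q = 0 := hθ q (Submodule.mem_span_singleton_self q)
          have h1 := hp'.conj ((hq' θ hθq).2 1)
          rw [one_smul, tv_apply hθq, hθp, one_smul] at h1
          exact Or.inr h1
      smul_mem' := fun c p hp => by
        rcases eq_or_ne c 0 with rfl | hc
        · exact Or.inl (zero_smul _ _)
        rcases hp with rfl | hp'
        · exact Or.inl (smul_zero c)
        · exact Or.inr (hp'.smul hc) }
  have hinv : ∀ {k}, k ∈ M → ∀ {x}, x ∈ Φ → app k x ∈ Φ := fun hk _ hx => by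
    rcases hx with rfl | hx
    · exact Or.inl (map_zero _)
    · exact Or.inr (hx.conj hk)
  have hpΦ : p ∈ Φ := Or.inr hfull
  have hfΦ : f ∈ Φ := by
    have h := hinv (inv_mem hTc) hpΦ
    rwa [← hTf, app_inv_app] at h
  have huΦ : u ∈ Φ := by
    have h := hinv (inv_mem hswap) hfΦ
    have e := app_inv_app ((refl Q (u - f) * refl Q a : IsoGrp Q) : GL ι F) u
    rw [app_coe, hswapu] at e
    rwa [e] at h
  have hWΦ : ∀ x ∈ perp Q u f, x ∈ Φ := fun x hx => by
    obtain ⟨hux, hfx⟩ := Orth.mem_perp.1 hx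
    have h := hinv (eich_mem hM hu hux) hfΦ
    rw [app_coe, Orth.eich_ap hu hux, hp.pf, Orth.pl_comm Q x f, hfx, one_smul] at h
    simpa using Φ.sub_mem (Φ.add_mem h (Φ.smul_mem (Q x) huΦ)) hfΦ
  refine sl_le_of_isFull M fun x hx => ?_
  have : x ∈ Φ := by
    rw [decomp4 x]
    exact Φ.add_mem (Φ.add_mem (Φ.add_mem (Φ.smul_mem _ huΦ) (Φ.smul_mem _ hfΦ))
      (Φ.smul_mem _ (hWΦ a ha))) (Φ.smul_mem _ (hWΦ b hb))
  exact this.resolve_left hx

include hQ h2 hn in
omit hM hMS in
/-- The similarities of a quadratic form on a four-dimensional space are maximal in `SL`. -/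
theorem quadSimilarity_maximal :
    Geo.IsMaximalIn (Geo.specialLinear ι F)
      (Geo.quadSimilarityGroup ⇑Q ⊓ Geo.specialLinear ι F) := by
  refine isMaximalIn_of_forall inf_le_right ?_ fun M hHM hMK g hgM hgH => ?_
  · obtain ⟨e, f, hp⟩ := Orth.exists_hpair hQ (by omega)
    refine ⟨tv e (Q.polarBilin e), tv_mem_sl _ _, fun h => ?_⟩
    have hφ : Q.polarBilin e e = 0 := by
      rw [QuadraticMap.polarBilin_apply_apply, Orth.pl_self, hp.qe, mul_zero]
    obtain ⟨c, hc⟩ := h.1
    have h1 : Q (app (tv e (Q.polarBilin e)) f) = (c : F) * Q f := hc f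
    rw [tv_apply hφ, QuadraticMap.polarBilin_apply_apply, hp.pf, one_smul, Orth.Q_add, hp.qe,
      hp.qf, Orth.pl_comm, hp.pf] at h1
    simp at h1
  · have hM : ∀ h : GL ι F, IsSim Q h → h ∈ Cfsg.Geo.specialLinear ι F → h ∈ M :=
      fun h hh hd => hHM ⟨hh, hd⟩
    have hns : ¬ IsSim Q g := fun h => hgH ⟨h, hMK hgM⟩
    obtain ⟨u, v, hu, hu0, hv0, huv, hT⟩ := exists_transvection hQ h2 hn hM hMK hgM hns
    exact sl_le_of_transvection hQ h2 hn hM hu hu0 hv0 huv hT

end Cfsg.Agent.SL4Max.Orth4
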