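/-
The similarities of a unitary form on a four-dimensional space are maximal in `SL`.
Main results: `norm_perp`, `iso_fix`, `exists_seen`, `isotropic_axes`, `unitarySimilarity_maximal`.
-/
import Cfsg.Agent.Lib.Transvect.UnitForm

set_option autoImplicit false
set_option linter.unusedSectionVars false
set_option linter.unusedVariables false

namespace Cfsg.Agent.SL4Max

open Matrix
open Cfsg.Agent.Transvect
open scoped MatrixGroups

variable {ι : Type} [Fintype ι] [DecidableEq ι] {F : Type*} [Field F] [Fintype F]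
  {σ : F ≃+* F} {f : (ι → F) → (ι → F) → F} (hf : Cfsg.Geo.IsUnitaryForm σ f)
include hf

/-- A vector orthogonal to two given ones with prescribed fixed norm. -/
lemma norm_perp (hn : 4 ≤ Fintype.card ι) (a b : ι → F)
    (hnd : f a a ≠ 0 ∨ f b a ≠ 0) {k : F} (hk : σ k = k) :
    ∃ r, f r r = k ∧ f r a = 0 ∧ f r b = 0 := by
  obtain ⟨w, hw, h1, h2⟩ : ∃ w, f w w ≠ 0 ∧ f w a = 0 ∧ f w b = 0 := by
    by_contra h
    push Not at h
    let L : (ι → F) →ₗ[F] F × F := (ufl hf a).prod (ufl hf b)
    have hQ : ∀ x ∈ LinearMap.ker L, f x x = 0 := fun x hx => by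
      have hx' : f x a = 0 ∧ f x b = 0 := by
        simpa [L, Prod.ext_iff] using hx
      obtain ⟨e1, e2⟩ := hx'
      by_contra h0
      exact h x h0 e1 e2
    have hts : ∀ x ∈ LinearMap.ker L, ∀ y ∈ LinearMap.ker L, f x y = 0 := fun x hx y hy => by
      by_contra hne
      obtain ⟨t, ht⟩ := exists_trace hf
      have key := hQ ((t / f x y) • x + y) ((LinearMap.ker L).add_mem
        ((LinearMap.ker L).smul_mem _ hx) hy)
      rw [hf.add_left, uf_add_right hf, uf_add_right hf, hf.smul_left, hf.smul_left,
        uf_smul_right hf, uf_smul_right hf, hQ x hx, hQ y hy, hf.herm y x] at key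
      rw [← map_mul, div_mul_cancel₀ t hne] at key
      simp only [mul_zero, zero_add, add_zero] at key
      exact one_ne_zero (ht.symm.trans key)
    have hdim : Fintype.card ι ≤ Module.finrank F (LinearMap.ker L) + 2 := by
      have h1 := LinearMap.finrank_range_add_finrank_ker L
      have h2 : Module.finrank F (LinearMap.range L) ≤ 2 :=
        le_trans (Submodule.finrank_le _) (by simp)
      rw [Module.finrank_fintype_fun_eq_card] at h1
      omega
    -- the functionals f(·, y), y in the kernel, lie in the annihilator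
    set U := LinearMap.ker L
    obtain ⟨bs⟩ : Nonempty (Module.Basis (Fin (Module.finrank F U)) F U) :=
      ⟨Module.finBasis F U⟩
    have hli : LinearIndependent F (fun i => ufl hf (bs i : ι → F)) := by
      rw [Fintype.linearIndependent_iff]
      intro g hg i
      have hzero : ∑ j, σ (g j) • (bs j : ι → F) = 0 := by
        by_contra hne
        obtain ⟨⟨x, hx⟩, -⟩ := hf.nondegenerate _ hne
        apply hx
        rw [hf.herm, ← ufl_apply hf x (∑ j, σ (g j) • (bs j : ι → F)), map_sum,
          map_sum]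
        have := LinearMap.congr_fun hg x
        simp only [LinearMap.sum_apply, LinearMap.smul_apply, ufl_apply, LinearMap.zero_apply,
          smul_eq_mul] at this
        rw [← this]
        refine Finset.sum_congr rfl fun j _ => ?_
        rw [ufl_apply, hf.smul_left, map_mul, hf.involutive, ← hf.herm]
      have hz2 : ∑ j, σ (g j) • bs j = 0 := Subtype.ext (by simpa using hzero)
      have := Fintype.linearIndependent_iff.1 bs.linearIndependent _ hz2 i
      simpa using congrArg σ this
    have hle : Submodule.span F (Set.range fun i => ufl hf (bs i : ι → F)) ≤ U.dualAnnihilator := by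
      rw [Submodule.span_le]
      rintro _ ⟨i, rfl⟩
      rw [SetLike.mem_coe, Submodule.mem_dualAnnihilator]
      exact fun x hx => hts x hx _ (bs i).2
    have h1 := Submodule.finrank_mono hle
    have h2 := Subspace.finrank_add_finrank_dualAnnihilator_eq U
    have h3 := finrank_span_eq_card hli
    rw [Fintype.card_fin] at h3
    have h4 := (Nat.add_le_add_left h1 (Module.finrank F U)).trans_eq h2
    rw [Module.finrank_fintype_fun_eq_card, h3] at h4
    rw [Module.finrank_fintype_fun_eq_card] at h2
    have heq := Submodule.eq_of_le_of_finrank_le hle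
      (le_of_add_le_add_left (a := Module.finrank F U) (h2.trans_le (by rw [h3]; omega)))
    have hUa : ∀ x ∈ U, f x a = 0 ∧ f x b = 0 := fun x hx => by
      have hx' : L x = 0 := hx
      simpa [L, Prod.ext_iff] using hx'
    have ha : ufl hf a ∈ U.dualAnnihilator := by
      rw [Submodule.mem_dualAnnihilator]
      exact fun x hx => (hUa x hx).1
    rw [← heq] at ha
    have hz : ∀ v, (∀ x ∈ U, f x v = 0) → ufl hf a v = 0 := fun v hv => by
      refine (Submodule.span_le (p := LinearMap.ker (LinearMap.applyₗ (R := F) v)).2 ?_) ha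
      rintro _ ⟨i, rfl⟩
      exact uf_symm hf (hv _ (bs i).2)
    rcases hnd with h | h
    · exact h (hz a fun x hx => (hUa x hx).1)
    · exact h (hz b fun x hx => (hUa x hx).2)
  have hk' : σ (k / f w w) = k / f w w := by rw [map_div₀, hk, ← hf.herm]
  obtain ⟨x, hx⟩ := norm_surjective hf.ne_refl hf.involutive hk'
  refine ⟨x • w, ?_, ?_, ?_⟩
  · rw [hf.smul_left, uf_smul_right hf, ← mul_assoc, hx, div_mul_cancel₀ _ hw]
  all_goals simp [hf.smul_left, h1, h2]

/-- An isotropic vector with one prescribed value. -/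
lemma shift (hn : 4 ≤ Fintype.card ι) (y a : ι → F) : ∃ u, f u u = 0 ∧ f u a = f y a := by
  by_cases hy : f y y = 0
  · exact ⟨y, hy, rfl⟩
  obtain ⟨r, hr, hry, hra⟩ := norm_perp hf hn y a (Or.inl hy) (k := -f y y) (by rw [map_neg, ← hf.herm])
  refine ⟨y + r, ?_, ?_⟩
  · rw [hf.add_left, uf_add_right hf, uf_add_right hf, uf_symm hf hry, hry, hr]; ring
  · rw [hf.add_left, hra, add_zero]

/-- Correction by an isotropic vector. -/
lemma iso_fix {t : F} (ht : t + σ t = 1) {u z : ι → F} (hu : f u u = 0) (hzu : f z u ≠ 0) :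
    ∃ w, f w w = 0 ∧ f w u = f z u ∧ ∀ v, f u v = 0 → f w v = f z v := by
  set lam := - σ t * f z z / f u z with hl
  have huz : f u z ≠ 0 := fun h => hzu (uf_symm hf h)
  refine ⟨z + lam • u, ?_, ?_, fun v hv => ?_⟩
  · rw [hf.add_left, uf_add_right hf, uf_add_right hf, hf.smul_left, hf.smul_left,
      uf_smul_right hf, uf_smul_right hf, hu, hl, map_div₀, map_mul, map_neg, hf.involutive,
      ← hf.herm, ← hf.herm z u]
    field_simp
    linear_combination -(f z z * f z u * f u z) * ht
  · rw [hf.add_left, hf.smul_left, hu, mul_zero, add_zero]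
  · rw [hf.add_left, hf.smul_left, hv, mul_zero, add_zero]

/-- An isotropic vector orthogonal to `w` seen by a functional. -/
lemma exists_seen (hn : 4 ≤ Fintype.card ι) {t : F} (ht : t + σ t = 1) {w : ι → F} (hw : w ≠ 0)
    (φ : (ι → F) →ₗ[F] F) (hφw : φ w = 0) {y0 : ι → F} (hy0w : f y0 w = 0) (hy0 : φ y0 ≠ 0) :
    ∃ u, f u u = 0 ∧ f u w = 0 ∧ φ u ≠ 0 := by
  by_contra hc
  push Not at hc
  have hy0w' : f w y0 = 0 := uf_symm hf hy0w
  obtain ⟨e0, he0, he0w, he0n⟩ : ∃ e, f e e = 0 ∧ f e w = 0 ∧ e ∉ Submodule.span F {w} := by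
    have hno : y0 ∉ Submodule.span F {w} := fun h => by
      obtain ⟨c, rfl⟩ := Submodule.mem_span_singleton.1 h
      rw [map_smul, hφw, smul_zero] at hy0; exact hy0 rfl
    by_cases hy : f y0 y0 = 0
    · exact ⟨y0, hy, hy0w, hno⟩
    obtain ⟨r, hr, hry, hrw⟩ := norm_perp hf hn y0 w (Or.inl hy) (k := -f y0 y0) (by rw [map_neg, ← hf.herm])
    refine ⟨y0 + r, ?_, by rw [hf.add_left, hy0w, hrw, add_zero], fun h => ?_⟩
    · rw [hf.add_left, uf_add_right hf, uf_add_right hf, uf_symm hf hry, hry, hr]; ring
    · obtain ⟨c, hc'⟩ := Submodule.mem_span_singleton.1 h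
      apply hy
      have h1 : f (y0 + r) y0 = f (c • w) y0 := by rw [hc']
      rw [hf.add_left, hry, add_zero, hf.smul_left, hy0w', mul_zero] at h1
      exact h1
  obtain ⟨x0, hx0w, hx0e⟩ : ∃ x, f x w = 0 ∧ f x e0 ≠ 0 := by
    by_contra h
    push Not at h
    obtain ⟨⟨z, hz⟩, -⟩ := hf.nondegenerate w hw
    apply he0n
    refine Submodule.mem_span_singleton.2 ⟨σ (f z e0 / f z w), ?_⟩
    by_contra hne
    obtain ⟨⟨x, hx⟩, -⟩ := hf.nondegenerate _ (sub_ne_zero.2 (Ne.symm hne))
    apply hx
    have h0 : f (x - (f x w / f z w) • z) e0 = 0 := h _ (by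
      rw [← ufl_apply hf w (x - _), map_sub, map_smul]; simp [div_mul_cancel₀ _ hz])
    rw [← ufl_apply hf e0 (x - _), map_sub, map_smul, sub_eq_zero, ufl_apply, ufl_apply, smul_eq_mul] at h0
    rw [sub_eq_add_neg, ← neg_smul, uf_add_right hf, uf_smul_right hf, h0, map_neg, hf.involutive]
    field_simp
    ring
  have h1 : ∀ x, f x w = 0 → f x e0 ≠ 0 → φ x = 0 := by
    intro x hxw hxe
    set lam := - σ t * f x x / f e0 x with hl
    have hex : f e0 x ≠ 0 := fun h => hxe (uf_symm hf h)
    have hiso : f (x + lam • e0) (x + lam • e0) = 0 := by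
      rw [hf.add_left, uf_add_right hf, uf_add_right hf, hf.smul_left, hf.smul_left,
        uf_smul_right hf, uf_smul_right hf, he0, hl, map_div₀, map_mul, map_neg, hf.involutive,
        ← hf.herm, ← hf.herm x e0]
      field_simp
      linear_combination -(f x x * f x e0 * f e0 x) * ht
    have h := hc _ hiso (by rw [hf.add_left, hf.smul_left, hxw, he0w, mul_zero, add_zero])
    rwa [map_add, map_smul, hc e0 he0 he0w, smul_zero, add_zero] at h
  apply hy0
  by_cases hy : f y0 e0 = 0
  · have h := h1 (y0 + x0) (by rw [hf.add_left, hy0w, hx0w, add_zero])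
      (by rw [hf.add_left, hy, zero_add]; exact hx0e)
    rwa [map_add, h1 x0 hx0w hx0e, add_zero] at h
  · exact h1 y0 hy0w hy

/-- A vector with prescribed norm orthogonal to a non-degenerate three-space. -/
lemma third (hn : Fintype.card ι = 4) {u y w : ι → F} (hu : f u u = 0) (hy : f y y = 0)
    (huy : f u y = 1) (hwu : f w u = 0) (hwy : f w y = 0) (hww : f w w ≠ 0) {k : F}
    (hk : σ k = k) (hk0 : k ≠ 0) : ∃ r, f r r = k ∧ f r u = 0 ∧ f r y = 0 ∧ f r w = 0 := by
  let L : (ι → F) →ₗ[F] F × F × F := (ufl hf u).prod ((ufl hf y).prod (ufl hf w))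
  obtain ⟨r0, hr0, hne⟩ := Submodule.exists_mem_ne_zero_of_ne_bot (p := LinearMap.ker L) (fun h => by
    have := LinearMap.finrank_le_finrank_of_injective (LinearMap.ker_eq_bot.1 h)
    simp [hn] at this)
  obtain ⟨h1, h2, h3⟩ : f r0 u = 0 ∧ f r0 y = 0 ∧ f r0 w = 0 := by simpa [L, Prod.ext_iff] using hr0
  have hyu : f y u = 1 := by rw [hf.herm, huy, map_one]
  have hrr : f r0 r0 ≠ 0 := by
    intro h0
    have hli : LinearIndependent F ![u, y, w, r0] := by
      rw [Fintype.linearIndependent_iff]
      intro g hg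
      simp [Fin.sum_univ_four] at hg
      have ev : ∀ v, g 0 * f u v + g 1 * f y v + g 2 * f w v + g 3 * f r0 v = 0 := fun v => by
        have := congrArg (ufl hf v) hg
        simpa [hf.add_left, hf.smul_left, uf_zero_left hf] using this
      have e0 := ev y
      rw [huy, hy, hwy, h2] at e0
      have e1 := ev u
      rw [hu, hyu, hwu, h1] at e1
      have e2 := ev w
      rw [uf_symm hf hwu, uf_symm hf hwy, h3] at e2
      simp at e0 e1
      simp [hww] at e2
      rw [e0, e1, e2] at hg
      simp [hne] at hg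
      intro i; fin_cases i <;> assumption
    have hspan := hli.span_eq_top_of_card_eq_finrank (by simp [hn])
    obtain ⟨⟨x, hx⟩, -⟩ := hf.nondegenerate r0 hne
    apply hx
    have hsub : Submodule.span F (Set.range ![u, y, w, r0]) ≤ LinearMap.ker (ufl hf r0) := by
      rw [Submodule.span_le]
      rintro _ ⟨i, rfl⟩
      fin_cases i <;> simp [uf_symm hf h1, uf_symm hf h2, uf_symm hf h3, h0]
    rw [hspan] at hsub
    simpa using hsub (Submodule.mem_top (x := x))
  have hk' : σ (k / f r0 r0) = k / f r0 r0 := by rw [map_div₀, hk, ← hf.herm]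
  obtain ⟨x, hx⟩ := norm_surjective hf.ne_refl hf.involutive hk'
  refine ⟨x • r0, ?_, ?_, ?_, ?_⟩
  · rw [hf.smul_left, uf_smul_right hf, ← mul_assoc, hx, div_mul_cancel₀ _ hrr]
  all_goals simp [hf.smul_left, h1, h2, h3]

omit hf in
/-- The Eichler isometry of two orthogonal isotropic vectors. -/
noncomputable def eu (hf : Cfsg.Geo.IsUnitaryForm σ f) (p q : ι → F) (a : F) : GL ι F :=
  tv p (a • ufl hf q) * tv q (-σ a • ufl hf p)

lemma eu_mem_sl (p q : ι → F) (a : F) : eu hf p q a ∈ Cfsg.Geo.specialLinear ι F :=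
  mul_mem (tv_mem_sl _ _) (tv_mem_sl _ _)

lemma eu_apply {p q : ι → F} (hp : f p p = 0) (hq : f q q = 0) (hpq : f p q = 0) (a : F) (x : ι → F) :
    app (eu hf p q a) x = x + (a * f x q) • p - (σ a * f x p) • q := by
  rw [eu, map_mul, LinearEquiv.mul_apply, tv_apply (by simp [hpq]),
    tv_apply (by simp [uf_symm hf hpq])]
  simp only [LinearMap.smul_apply, smul_eq_mul, map_add, map_smul, ufl_apply, hq]
  module

lemma eu_isometry {p q : ι → F} (hp : f p p = 0) (hq : f q q = 0) (hpq : f p q = 0) (a : F)
    (x y : ι → F) : f (app (eu hf p q a) x) (app (eu hf p q a) y) = f x y := by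
  rw [eu_apply hf hp hq hpq, eu_apply hf hp hq hpq, sub_eq_add_neg, sub_eq_add_neg, ← neg_smul, ← neg_smul]
  simp only [hf.add_left, uf_add_right hf, hf.smul_left, uf_smul_right hf, hp, hq, hpq,
    uf_symm hf hpq, map_neg, map_mul, hf.involutive]
  rw [← hf.herm p y, ← hf.herm q y]
  ring

/-- The axis `ufl u` at an isotropic centre `w`. -/
lemma isotropic_axes {M : Subgroup (GL ι F)}
    (hM : ∀ h : GL ι F, (∀ x y, f (app h x) (app h y) = f x y) → h ∈ Cfsg.Geo.specialLinear ι F → h ∈ M)
    {u y w : ι → F} (hwu : f w u = 0) (hww : f w w = 0) (hu : f u u = 0) (huy : f u y = 1)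
    (hy : f y y = 0) (hwy : f w y = 0) (hw : w ≠ 0) {t : F} (ht : t + σ t = 1) {c : F} (hc : c ≠ 0)
    (hT : tv w (c • ufl hf u) ∈ M) : ufl hf u ∈ axes M w := by
  have huw : f u w = 0 := uf_symm hf hwu
  have hyu : f y u = 1 := by rw [hf.herm, huy, map_one]
  have hE : ∀ {p q : ι → F}, f p p = 0 → f q q = 0 → f p q = 0 → ∀ a, eu hf p q a ∈ M :=
    fun hp hq hpq a => hM _ (eu_isometry hf hp hq hpq a) (eu_mem_sl hf _ _ a)
  have comp : ∀ h : GL ι F, (∀ x y, f (app h x) (app h y) = f x y) → ∀ v : ι → F,
      ufl hf v ∘ₗ (app h⁻¹).toLinearMap = ufl hf (app h v) := fun h hh v => LinearMap.ext fun x => by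
    simp only [LinearMap.comp_apply, LinearEquiv.coe_coe, ufl_apply]
    rw [← hh, app_app_inv]
  -- the whole root group at `w`
  have hWW : ufl hf w ∈ axes M w := by
    refine ⟨by simp [hww], fun e => ?_⟩
    have step : ∀ a, tv w ((c * σ a) • ufl hf w) ∈ M := fun a => by
      have h := hE hww hy hwy a
      have h1 := mul_mem (mul_mem h hT) (inv_mem h)
      rw [tv_conj (by simp [hwu]), LinearMap.smul_comp, comp _ (eu_isometry hf hww hy hwy a),
        eu_apply hf hww hy hwy, eu_apply hf hww hy hwy, hwy, hww, huy, huw] at h1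
      simp only [mul_zero, zero_smul, sub_zero, add_zero, mul_one, ufl_add hf, ufl_smul hf, smul_add,
        smul_smul] at h1
      rw [tv_add (by simp [hwu]) (by simp [hww])] at h1
      have h2 := mul_mem (inv_mem hT) h1
      rwa [inv_mul_cancel_left] at h2
    have h := step (σ (e / c))
    rwa [hf.involutive, mul_div_cancel₀ _ hc] at h
  -- a partner of `w`
  obtain ⟨w', hw', hw'w, hw'u⟩ : ∃ w', f w' w' = 0 ∧ f w' w = 1 ∧ f w' u = 0 := by
    obtain ⟨⟨x, hx⟩, -⟩ := hf.nondegenerate w hw
    set z := (f x w)⁻¹ • (x + (-f x u) • y) with hz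
    have hzw : f z w = 1 := by
      rw [hz, hf.smul_left, hf.add_left, hf.smul_left, uf_symm hf hwy, mul_zero, add_zero, inv_mul_cancel₀ hx]
    have hzu : f z u = 0 := by
      rw [hz, hf.smul_left, hf.add_left, hf.smul_left, hyu]; ring
    obtain ⟨v, hv, hvw, hvo⟩ := iso_fix hf ht hww (show f z w ≠ 0 by rw [hzw]; exact one_ne_zero)
    exact ⟨v, hv, hvw.trans hzw, (hvo u hwu).trans hzu⟩
  have huw' : f u w' = 0 := uf_symm hf hw'u
  have hww' : f w w' = 1 := by rw [hf.herm, hw'w, map_one]
  -- all points of the plane of `w` and `u`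
  have hP : ∀ s : F, ufl hf (w + s • u) ∈ axes M (w + s • u) := fun s => by
    have h := axes_conj (hE hu hw' huw' s) hWW
    rwa [comp _ (eu_isometry hf hu hw' huw' s), eu_apply hf hu hw' huw', hww', hwu, mul_one, mul_zero,
      zero_smul, sub_zero] at h
  have hUU : ufl hf u ∈ axes M u := by
    have h := axes_conj (hE hww hy hwy (-1)) (hP 1)
    rw [one_smul, comp _ (eu_isometry hf hww hy hwy _), eu_apply hf hww hy hwy] at h
    simp only [hf.add_left, hwy, hww, huy, huw, zero_add, mul_one, mul_zero, zero_smul, sub_zero,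
      neg_smul, one_smul] at h
    rwa [show w + u + -w = u by abel] at h
  -- mixed elements
  have hmix : ∀ (s e : F), tv w ((e * σ s) • ufl hf u) * tv u ((e * s) • ufl hf w) ∈ M := fun s e => by
    have heq : tv (w + s • u) (e • ufl hf (w + s • u)) = tv w (e • ufl hf w) *
        (tv u ((e * (s * σ s)) • ufl hf u) * (tv w ((e * σ s) • ufl hf u) * tv u ((e * s) • ufl hf w))) := by
      refine gl_ext fun x => ?_
      rw [tv_apply (by simp [ufl_add hf, ufl_smul hf, hf.add_left, hf.smul_left, hwu, hww, hu, huw]), map_mul, map_mul, map_mul,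
        LinearEquiv.mul_apply, LinearEquiv.mul_apply, LinearEquiv.mul_apply, tv_apply (by simp [hww]),
        tv_apply (by simp [hu]), tv_apply (by simp [hwu]), tv_apply (by simp [huw])]
      simp only [LinearMap.smul_apply, LinearMap.add_apply, smul_eq_mul, map_add, map_smul, ufl_apply,
        ufl_add hf, ufl_smul hf, hww, hu, hwu, huw]
      module
    have h1 := (hP s).2 e
    rw [heq] at h1
    have h2 := mul_mem (inv_mem (hUU.2 (e * (s * σ s)))) (mul_mem (inv_mem (hWW.2 e)) h1)
    rwa [inv_mul_cancel_left, inv_mul_cancel_left] at h2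
  obtain ⟨s, hs⟩ : ∃ s, σ s ≠ s := by
    by_contra h
    push Not at h
    exact hf.ne_refl (RingEquiv.ext h)
  have hs0 : s ≠ 0 := fun e => hs (by rw [e, map_zero])
  refine ⟨by simp [hwu], fun e => ?_⟩
  have hne : σ s / s - 1 ≠ 0 := sub_ne_zero.2 fun h => hs ((div_eq_one_iff_eq hs0).1 h)
  set k := e / (σ s / s - 1) with hk
  have h1 := hmix s (k / s)
  have h2 := hmix 1 k
  rw [map_one, mul_one, show k / s * s = k from div_mul_cancel₀ _ hs0] at *
  have h3 := mul_mem h1 (inv_mem h2)
  rw [_root_.mul_inv_rev, ← mul_assoc, mul_inv_cancel_right, tv_inv (by simp [hwu]),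
    ← tv_add (by simp [hwu]) (by simp [hwu])] at h3
  convert h3 using 2
  rw [hk]; match_scalars; field_simp; ring

theorem unitarySimilarity_maximal (hn : Fintype.card ι = 4) :
    Cfsg.Geo.IsMaximalIn (Cfsg.Geo.specialLinear ι F)
      (Cfsg.Geo.similarityGroup f ⊓ Cfsg.Geo.specialLinear ι F) := by
  classical
  obtain ⟨d, hd0, hd⟩ := exists_skew' hf
  obtain ⟨t, ht⟩ := exists_trace hf
  haveI : Nonempty ι := Fintype.card_pos_iff.1 (by omega)
  have hn4 : 4 ≤ Fintype.card ι := hn.ge
  obtain ⟨v0, hv0⟩ := exists_ne (0 : ι → F)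
  -- a non-zero isotropic vector
  obtain ⟨e, he, he0⟩ : ∃ e, f e e = 0 ∧ e ≠ 0 := by
    obtain ⟨⟨x, hx⟩, -⟩ := hf.nondegenerate v0 hv0
    obtain ⟨u, hu, hux⟩ := shift hf hn4 x v0
    exact ⟨u, hu, fun h => hx (by rw [← hux, h, uf_zero_left hf])⟩
  refine isMaximalIn_of_forall inf_le_right ?_ ?_
  · -- properness
    obtain ⟨x0, hx0e, hx0n⟩ : ∃ x0, f x0 e = 0 ∧ x0 ∉ Submodule.span F {e} := by
      obtain ⟨⟨z, hz⟩, -⟩ := hf.nondegenerate e he0
      obtain ⟨r, hr, hre, -⟩ :=
        norm_perp hf hn4 e z (Or.inr hz) (k := 1) (map_one σ)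
      refine ⟨r, hre, fun h => ?_⟩
      obtain ⟨c, rfl⟩ := Submodule.mem_span_singleton.1 h
      rw [hf.smul_left, uf_smul_right hf, he, mul_zero, mul_zero] at hr
      exact zero_ne_one hr
    obtain ⟨φ, hφ, hφx⟩ := exists_dual_eq_one (W := Submodule.span F {e}) hx0n
    have hφe : φ e = 0 := hφ e (Submodule.mem_span_singleton_self e)
    refine ⟨tv e φ, tv_mem_sl _ _, ?_⟩
    rintro ⟨⟨c, hc⟩, -⟩
    have key : ∀ x y, f x y + φ x * f e y + σ (φ y) * f x e = (c : F) * f x y := fun x y => by
      have := hc x y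
      rw [← app_apply, ← app_apply, tv_apply hφe, tv_apply hφe] at this
      rw [← this, hf.add_left, uf_add_right hf, uf_add_right hf, hf.smul_left, hf.smul_left,
        uf_smul_right hf, uf_smul_right hf, he]
      ring
    obtain ⟨-, y, hy⟩ := hf.nondegenerate e he0
    have hc1 : (c : F) = 1 := by
      have := key e y
      rw [hφe, he, zero_mul, mul_zero, add_zero, add_zero] at this
      exact mul_right_cancel₀ hy (by rw [one_mul, ← this])
    have := key x0 y
    rw [hφx, one_mul, hx0e, mul_zero, add_zero, hc1, one_mul, add_eq_left] at this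
    exact hy this
  · intro M hHM hMK g hgM hgH
    have hut : ∀ {u}, f u u = 0 → ∀ {a}, σ a = -a → ut hf u a ∈ M := fun hu _ ha =>
      hHM ⟨⟨1, fun x y => by
        rw [Units.val_one, one_mul, ← app_apply, ← app_apply, ut_isometry hf hu ha]⟩, tv_mem_sl _ _⟩
    have hiso : ∀ h : GL ι F, (∀ x y, f (app h x) (app h y) = f x y) → h ∈ Cfsg.Geo.specialLinear ι F → h ∈ M :=
      fun h hh hd => hHM ⟨⟨1, fun x y => by rw [Units.val_one, one_mul, ← app_apply, ← app_apply, hh]⟩, hd⟩
    -- an isotropic vector whose transvection moves to a non-unitary axis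
    obtain ⟨v, hviso, hv⟩ : ∃ v, f v v = 0 ∧
        (ufl hf v) ∘ₗ (app g⁻¹).toLinearMap ∉ Submodule.span F {ufl hf (app g v)} := by
      by_contra h
      push Not at h
      have h' : ∀ v, f v v = 0 → ∃ a, ∀ x, a * f (app g x) (app g v) = f x v := fun v hv => by
        obtain ⟨a, ha⟩ := Submodule.mem_span_singleton.1 (h v hv)
        refine ⟨a, fun x => ?_⟩
        have := LinearMap.congr_fun ha (app g x)
        rw [LinearMap.smul_apply, LinearMap.comp_apply, LinearEquiv.coe_coe, app_inv_app,
          ufl_apply, ufl_apply] at this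
        exact this
      choose! a ha using h'
      have ha0 : ∀ v, f v v = 0 → v ≠ 0 → a v ≠ 0 := fun v hv hv0' h0 => by
        obtain ⟨⟨x, hx⟩, -⟩ := hf.nondegenerate v hv0'
        exact hx (by rw [← ha v hv x, h0, zero_mul])
      have hgiso : ∀ v, f v v = 0 → f (app g v) (app g v) = 0 := fun v hv => by
        rcases eq_or_ne v 0 with rfl | hv0'
        · rw [map_zero, uf_zero_left hf]
        · have := ha v hv v
          rw [hv] at this
          exact (mul_eq_zero.1 this).resolve_left (ha0 v hv hv0')
      have heq : ∀ u w, f u u = 0 → f w w = 0 → f u w ≠ 0 → a u = a w ∧ σ (a u) = a u := by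
        intro u w hu hw hne
        set s := f u w with hs
        set lam := d / σ s with hlam
        have hσs : σ s ≠ 0 := by simpa using hne
        have hl0 : lam ≠ 0 := div_ne_zero hd0 hσs
        have hsl : σ lam * s = -d := by
          rw [hlam, map_div₀, hd, hf.involutive, div_mul_cancel₀ _ hne]
        have hls : lam * σ s = d := div_mul_cancel₀ _ hσs
        have hiso : f (u + lam • w) (u + lam • w) = 0 := by
          rw [hf.add_left, uf_add_right hf, uf_add_right hf, hf.smul_left, hf.smul_left,
            uf_smul_right hf, uf_smul_right hf, hu, hw, hf.herm w u, ← hs, hls, hsl]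
          ring
        have h1 := ha _ hiso u
        have h2 := ha w hw u
        have h3 := ha _ hiso w
        have h4 := ha u hu w
        rw [map_add, map_smul, uf_add_right hf, uf_smul_right hf, hgiso u hu, zero_add,
          uf_add_right hf, uf_smul_right hf, hu, zero_add, ← h2] at h1
        have h1' : a (u + lam • w) = a w := by
          have hne' : σ lam * f (app g u) (app g w) ≠ 0 := by
            refine mul_ne_zero (by simpa using hl0) fun h0 => hne ?_
            rw [hs, ← h2, h0, mul_zero]
          exact mul_right_cancel₀ hne' (by linear_combination h1)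
        rw [map_add, map_smul, uf_add_right hf, uf_smul_right hf, hgiso w hw, mul_zero, add_zero,
          uf_add_right hf, uf_smul_right hf, hw, mul_zero, add_zero, ← h4] at h3
        have hne2 : f (app g w) (app g u) ≠ 0 := fun h0 => hne (by
          rw [hs, ← h2, uf_symm hf h0, mul_zero])
        have hau : a u = a w := by rw [← h1', mul_right_cancel₀ hne2 h3]
        refine ⟨hau, ?_⟩
        have h5 := congrArg σ h4
        rw [map_mul, ← hf.herm, ← hf.herm, ← h2, ← hau] at h5
        exact mul_right_cancel₀ (fun h0 => hne (by rw [hs, ← h2, h0, mul_zero])) h5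
      have hconst : ∀ u, f u u = 0 → u ≠ 0 → a u = a e := by
        intro u hu hu0
        by_cases hue : f u e = 0
        · obtain ⟨z, h1, h2⟩ := exists_nonorth_u hf hu0 he0
          obtain ⟨w, hw, hw1, hw2⟩ := iso_fix hf ht hu h1
          rw [← (heq w u hw hu (hw1 ▸ h1)).1,
            (heq w e hw he (by rw [hw2 e hue]; exact h2)).1]
        · exact (heq u e hu he hue).1
      let Φ : Submodule F (ι → F) :=
        { carrier := {y | ∀ x, a e * f (app g x) (app g y) = f x y}
          zero_mem' := fun x => by rw [map_zero, uf_zero_right hf, uf_zero_right hf, mul_zero]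
          add_mem' := fun {p q} hp hq x => by
            rw [map_add, uf_add_right hf, uf_add_right hf, mul_add, hp x, hq x]
          smul_mem' := fun c p hp x => by
            rw [map_smul, uf_smul_right hf, uf_smul_right hf, ← hp x]; ring }
      have hΦ : Φ = ⊤ := eq_top_of_isotropic hf he0 he Φ (ha e he) fun x hx hxe => by
        intro y
        rw [← hconst x hx (fun h => hxe (by rw [h, uf_zero_left hf]))]
        exact ha x hx y
      have hae : a e ≠ 0 := ha0 e he he0
      refine hgH ⟨⟨(Units.mk0 _ hae)⁻¹, fun x y => ?_⟩, hMK hgM⟩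
      have hy : y ∈ Φ := hΦ ▸ Submodule.mem_top
      rw [← app_apply, ← app_apply, Units.val_inv_eq_inv_val, Units.val_mk0, ← hy x, ← mul_assoc,
        inv_mul_cancel₀ hae, one_mul]
    set w := app g v with hw
    set φ := d • ((ufl hf v) ∘ₗ (app g⁻¹).toLinearMap) with hφdef
    have hφw : φ w = 0 := by
      rw [hφdef, hw, LinearMap.smul_apply, LinearMap.comp_apply, LinearEquiv.coe_coe, app_inv_app,
        ufl_apply, hviso, smul_zero]
    have hφM : tv w φ ∈ M := by
      rw [hφdef, hw, ← LinearMap.smul_comp, ← tv_conj (by simp [hviso]) g]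
      exact mul_mem (mul_mem hgM (hut hviso hd)) (inv_mem hgM)
    have hwne : w ≠ 0 := fun h => by
      have : v = 0 := (app g).injective (by rw [← hw, h, map_zero])
      apply hv
      rw [this]
      have h0 : (ufl hf (0 : ι → F)) ∘ₗ (app g⁻¹).toLinearMap = 0 :=
        LinearMap.ext fun x => uf_zero_right hf _
      rw [h0]; exact zero_mem _
    -- the additive group of axes at w
    have step : ∀ ψ : (ι → F) →ₗ[F] F, ψ w = 0 → tv w ψ ∈ M → ∀ u, f u u = 0 → f w u = 0 →
        ∀ b, σ b = -b → tv w ((b * ψ u) • ufl hf u) ∈ M := by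
      intro ψ hψ hψM u hu hwu b hb
      have hk := hut hu hb
      have e1 : app (ut hf u b) w = w := by rw [ut_apply hf hu, hwu, mul_zero, zero_smul, add_zero]
      have h1 : ut hf u b * tv w ψ * (ut hf u b)⁻¹ ∈ M := mul_mem (mul_mem hk hψM) (inv_mem hk)
      rw [tv_conj hψ, e1] at h1
      have e2 : ψ ∘ₗ (app (ut hf u b)⁻¹).toLinearMap = ψ - (b * ψ u) • ufl hf u := by
        rw [ut, tv_inv (by simp [hu])]
        refine LinearMap.ext fun x => ?_
        simp only [LinearMap.comp_apply, LinearEquiv.coe_coe]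
        rw [tv_apply (by simp [hu]), map_add, map_smul]
        simp only [LinearMap.neg_apply, LinearMap.sub_apply, LinearMap.smul_apply, smul_eq_mul,
          ufl_apply]
        ring
      rw [e2] at h1
      have h2 := mul_mem hψM (inv_mem h1)
      rw [tv_inv (by simp [hψ, hwu]), ← tv_add hψ (by simp [hψ, hwu])] at h2
      convert h2 using 2
      abel
    -- an isotropic u orthogonal to w seen by φ
    obtain ⟨y0, hy0w, hy0⟩ : ∃ y0, f y0 w = 0 ∧ φ y0 ≠ 0 := by
      by_contra h
      push Not at h
      apply hv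
      obtain ⟨⟨z, hz⟩, -⟩ := hf.nondegenerate w hwne
      refine Submodule.mem_span_singleton.2 ⟨φ z / f z w / d, LinearMap.ext fun x => ?_⟩
      have h1 := h (x - (f x w / f z w) • z) (by
        rw [← ufl_apply hf w (x - _), map_sub, map_smul]; simp [div_mul_cancel₀ _ hz])
      rw [map_sub, map_smul, sub_eq_zero, smul_eq_mul] at h1
      rw [LinearMap.smul_apply, ufl_apply, smul_eq_mul]
      have h2 : φ x = d * ((ufl hf v) ∘ₗ (app g⁻¹).toLinearMap) x := rfl
      apply mul_left_cancel₀ hd0
      rw [← h2, h1]; field_simp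
    obtain ⟨u, hu, huw, hφu⟩ := exists_seen hf hn4 ht hwne φ hφw hy0w hy0
    have hwu : f w u = 0 := uf_symm hf huw
    -- a triangle
    obtain ⟨p, hp1, hp2⟩ : ∃ p, f p u = 1 ∧ f p w = 0 := by
      obtain ⟨x, hx, hxw⟩ : ∃ x, f x u ≠ 0 ∧ f x w = 0 := by
        by_contra h
        push Not at h
        obtain ⟨⟨z, hz⟩, -⟩ := hf.nondegenerate w hwne
        have hprop : ∀ x, f x u = (f z u / f z w) * f x w := fun x => by
          have h0 : f (x - (f x w / f z w) • z) u = 0 := by
            by_contra hne
            exact h _ hne (by rw [← ufl_apply hf w (x - _), map_sub, map_smul]; simp [div_mul_cancel₀ _ hz])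
          rw [← ufl_apply hf u (x - _), map_sub, map_smul, sub_eq_zero, ufl_apply, ufl_apply,
            smul_eq_mul] at h0
          rw [h0]; ring
        apply hφu
        -- u is then proportional to w, so φ u = 0
        set κ := σ (f z u / f z w)
        have hz' : u - κ • w = 0 := by
          by_contra hne
          obtain ⟨⟨x, hx⟩, -⟩ := hf.nondegenerate _ hne
          apply hx
          rw [sub_eq_add_neg, ← neg_smul, uf_add_right hf, uf_smul_right hf, hprop x, map_neg,
            hf.involutive]
          ring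
        rw [sub_eq_zero.1 hz', map_smul, hφw, smul_zero]
      exact ⟨(f x u)⁻¹ • x, by rw [hf.smul_left, inv_mul_cancel₀ hx],
        by rw [hf.smul_left, hxw, mul_zero]⟩
    obtain ⟨y, hy, hyu, hyw'⟩ := iso_fix hf ht hu (show f p u ≠ 0 by rw [hp1]; exact one_ne_zero)
    rw [hp1] at hyu
    have hyw : f y w = 0 := by rw [hyw' w huw, hp2]
    have huy : f u y = 1 := by rw [hf.herm, hyu, map_one]
    have hwy : f w y = 0 := uf_symm hf hyw
    -- the coefficients at u: k c and k t' c for every fixed k
    have hC1 : ∀ b, σ b = -b → tv w ((b * φ u) • ufl hf u) ∈ M := fun b hb =>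
      step φ hφw hφM u hu hwu b hb
    have hU : ufl hf u ∈ axes M w := by
      by_cases hww : f w w = 0
      · exact isotropic_axes hf hiso hwu hww hu huy hy hwy hwne ht
          (mul_ne_zero hd0 hφu) (hC1 d hd)
      · obtain ⟨r, hr, hru, hry, hrw⟩ := third hf hn hu hy huy hwu hwy hww (k := -1) (by simp) (by simp)
        set z := t • u + y + r with hz
        have hzu : f z u = 1 := by
          simp only [hz, hf.add_left, hf.smul_left, hu, hyu, hru]; ring
        have hzy : f z y = t := by
          simp only [hz, hf.add_left, hf.smul_left, huy, hy, hry]; ring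
        have hzz : f z z = 0 := by
          simp only [hz, hf.add_left, uf_add_right hf, hf.smul_left, uf_smul_right hf, hu, hy, huy, hyu,
            uf_symm hf hru, uf_symm hf hry, hru, hry, hr]
          linear_combination ht
        have hwz : f w z = 0 := uf_symm hf (by
          simp only [hz, hf.add_left, hf.smul_left, huw, hyw, hrw]; ring)
        have huz' : f u z = 1 := by rw [hf.herm, hzu, map_one]
        have hz0' : ∀ (c : F) (p : ι → F), f w p = 0 → (c • ufl hf p) w = 0 := fun c p hp => by simp [hp]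
        have hC2 : ∀ b₁ b₂ b₃ b₄ : F, σ b₁ = -b₁ → σ b₂ = -b₂ → σ b₃ = -b₃ → σ b₄ = -b₄ →
            tv w ((b₁ * b₂ * b₃ * b₄ * σ t * φ u) • ufl hf u) ∈ M := by
          intro b₁ b₂ b₃ b₄ h1 h2 h3 h4
          have s1 := step _ (hz0' _ u hwu) (hC1 b₁ h1) z hzz hwz b₂ h2
          have s2 := step _ (hz0' _ z hwz) s1 y hy hwy b₃ h3
          have hyz : f y z = σ t := by rw [hf.herm, hzy]
          have s3 := step _ (hz0' _ y hwy) s2 u hu hwu b₄ h4
          convert s3 using 3
          simp only [LinearMap.smul_apply, ufl_apply, smul_eq_mul, hzu, huy, hyz]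
          ring
        -- C = {coefficients} contains dK and d⁴ (K t') for t' = σ t, hence everything
        have hC : ∀ c : F, tv w (c • ufl hf u) ∈ M := by
          intro c
          -- write c / φ u = b + d^4 t' k with b skew, k fixed
          set x := c / φ u with hx
          set kk := (x + σ x) / (d * d * d * d) with hkk
          have hkfix : σ kk = kk := by
            rw [hkk, map_div₀, map_add, hf.involutive, map_mul, map_mul, map_mul, hd]
            ring
          have h1 : σ (x - d * d * d * d * σ t * kk) = -(x - d * d * d * d * σ t * kk) := by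
            have hd4 : d * d * d * d * kk = x + σ x := by
              rw [hkk]; field_simp
            rw [map_sub, map_mul, map_mul, map_mul, map_mul, map_mul, hd, hkfix, hf.involutive]
            linear_combination (-(σ t) - t) * hd4 - (x + σ x) * ht
          have h2 : σ (kk * d) = -(kk * d) := by rw [map_mul, hkfix, hd]; ring
          have := mul_mem (hC1 _ h1) (hC2 _ d d d h2 hd hd hd)
          rw [← tv_add (hz0' _ u hwu) (hz0' _ u hwu), ← add_smul] at this
          convert this using 3
          rw [hx]; field_simp; ring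
        exact ⟨by simpa using hwu, fun c => hC c⟩
    have hz0' : ∀ (c : F) (p : ι → F), f w p = 0 → (c • ufl hf p) w = 0 := fun c p hp => by simp [hp]
    have hC : ∀ c : F, tv w (c • ufl hf u) ∈ M := hU.2
    have hprop : ∀ y, f y y = 0 → f w y = 0 → f y u ≠ 0 → ufl hf y ∈ axes M w := by
      intro y hy hwy hyu
      refine ⟨by simpa using hwy, fun c => ?_⟩
      have := step ((c / (d * f y u)) • ufl hf u) (hz0' _ u hwu) (hC _) y hy hwy d hd
      convert this using 3
      simp only [LinearMap.smul_apply, ufl_apply, smul_eq_mul]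
      field_simp
    have hfull : IsFull M w := by
      intro ψ hψ
      obtain ⟨x, rfl⟩ := ufl_surjective hf ψ
      have hwx : f w x = 0 := hψ
      have hgen : ∀ x, f w x = 0 → f x u ≠ 0 → ufl hf x ∈ axes M w := by
        intro x hwx hxu
        set lam := - σ t * f x x / f u x with hl
        have hux : f u x ≠ 0 := fun h0 => hxu (uf_symm hf h0)
        have hiso : f (x + lam • u) (x + lam • u) = 0 := by
          rw [hf.add_left, uf_add_right hf, uf_add_right hf, hf.smul_left, hf.smul_left,
            uf_smul_right hf, uf_smul_right hf, hu, hl, map_div₀, map_mul, map_neg, hf.involutive,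
            ← hf.herm, ← hf.herm x u]
          field_simp
          linear_combination -(f x x * f x u * f u x) * ht
        have h1 := hprop _ hiso (by rw [uf_add_right hf, uf_smul_right hf, hwx, hwu, mul_zero, add_zero])
          (by rw [hf.add_left, hf.smul_left, hu, mul_zero, add_zero]; exact hxu)
        rw [ufl_add hf, ufl_smul hf] at h1
        simpa using (axes M w).sub_mem h1 ((axes M w).smul_mem (σ lam) hU)
      by_cases hxu : f x u = 0
      · have h1 := hgen (x + y) (by rw [uf_add_right hf, hwx, hwy, add_zero])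
          (by rw [hf.add_left, hxu, hyu, zero_add]; exact one_ne_zero)
        have h2 := (axes M w).sub_mem h1 (hgen y hwy (by rw [hyu]; exact one_ne_zero))
        rwa [ufl_add hf, add_sub_cancel_right] at h2
      · exact hgen x hwx hxu
    -- the vectors all of whose axes occur form a submodule
    let Φ : Submodule F (ι → F) :=
      { carrier := {x | x = 0 ∨ IsFull M x}
        zero_mem' := Or.inl rfl
        add_mem' := fun {p q} hp hq => by
          rcases eq_or_ne p 0 with rfl | hp0
          · rwa [zero_add]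
          rcases eq_or_ne q 0 with rfl | hq0
          · rwa [add_zero]
          have hp' := hp.resolve_left hp0
          have hq' := hq.resolve_left hq0
          by_cases hsp : p ∈ Submodule.span F {q}
          · obtain ⟨c, rfl⟩ := Submodule.mem_span_singleton.1 hsp
            rw [show c • q + q = (c + 1) • q by rw [add_smul, one_smul]]
            by_cases hc : c + 1 = 0
            · exact Or.inl (by rw [hc, zero_smul])
            · exact Or.inr (hq'.smul hc)
          · obtain ⟨θ, hθ, hθp⟩ := exists_dual_eq_one hsp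
            have hθq : θ q = 0 := hθ q (Submodule.mem_span_singleton_self q)
            have h1 := hp'.conj ((hq' θ hθq).2 1)
            rw [one_smul, tv_apply hθq, hθp, one_smul] at h1
            exact Or.inr h1
        smul_mem' := fun c p hp => by
          rcases eq_or_ne c 0 with rfl | hc
          · exact Or.inl (zero_smul _ _)
          rcases hp with rfl | hp'
          · exact Or.inl (smul_zero c)
          · exact Or.inr (hp'.smul hc) }
    have hinv : ∀ {k}, k ∈ M → ∀ {x}, x ∈ Φ → app k x ∈ Φ := fun hk _ hx => by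
      rcases hx with rfl | hx
      · exact Or.inl (map_zero _)
      · exact Or.inr (hx.conj hk)
    have hwΦ : w ∈ Φ := Or.inr hfull
    have hiso_mem : ∀ {x0}, x0 ∈ Φ → ∀ x, f x x = 0 → f x0 x ≠ 0 → x ∈ Φ := by
      intro x0 hx0 x hx hne
      have h1 := hinv (hut hx hd) hx0
      rw [ut_apply hf hx, Submodule.add_mem_iff_right Φ hx0] at h1
      have h2 := Φ.smul_mem (d * f x0 x)⁻¹ h1
      rwa [smul_smul, inv_mul_cancel₀ (mul_ne_zero hd0 hne), one_smul] at h2
    obtain ⟨⟨x, hx⟩, -⟩ := hf.nondegenerate w hwne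
    obtain ⟨u0, hu0, hu0w⟩ := shift hf hn4 x w
    have hu0Φ : u0 ∈ Φ := hiso_mem hwΦ u0 hu0 (fun h0 => hx (by rw [← hu0w, uf_symm hf h0]))
    have hu00 : u0 ≠ 0 := fun h0 => hx (by rw [← hu0w, h0, uf_zero_left hf])
    have htop : Φ = ⊤ := eq_top_of_isotropic hf hu00 hu0 Φ hu0Φ fun x hx hne =>
      hiso_mem hu0Φ x hx (fun h0 => hne (uf_symm hf h0))
    refine sl_le_of_isFull M fun x hx => ?_
    have : x ∈ Φ := htop ▸ Submodule.mem_top
    exact this.resolve_left hx

end Cfsg.Agent.SL4Max
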